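import Mathlib
import Cfsg.Agent.GTwoFour.TransferTL

/-!
# Graded groups with doubled and undoubled root groups

`V i` (`i ≥ 1`) elementary abelian 2-groups with `[V i, V j] ≤ N (i + j)`, `N h = ⟨V i : i ≥ h⟩`, an involution `t`
acting on every `V i` with fixed points `X i`; for `i` not marked `lg` the map `w ↦ w⁻¹ w^t` is onto `X i`
(doubled), for `i` marked `lg` we have `V i = X i` (undoubled). `Lg 1` is generated by the undoubled pieces.

* `Grd.exists_conj`: every involution of `t N 1` is conjugate to `t ℓ`, `ℓ ∈ Lg 1`.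
* `Grd.lifts`: if `|C_N(t ℓ)| = |C_N(t)|` then every `x ∈ X k` is the leading term of an element of `C_N(t ℓ)`.
* `Grd.brk_lg`: `g⁻¹ g^t` has no leading term in an undoubled degree.
* `Grd.mem_R_of_card`: if the centraliser of `t ℓ` in `N 1` has the order of the centraliser of `t` then
  `ℓ ∈ X R` (`R` the top undoubled degree); hypothesis `push`.
* `Grd.exists_hom'`: if `t` is not conjugate to any such `t ℓ ≠ t` there is `G → {±1}` with `t ↦ -1`.
* `Grd.exists_hom`: the same if `t` is not conjugate to `t x`, `1 ≠ x ∈ X R`, with `push`.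
* `exists_hom_of_extremal`: transfer to `M ∪ t M`, `M` any 2-group normalised by the involution `t ∉ M`.
-/

set_option autoImplicit false

namespace Cfsg.Agent.OddHalf.F4.EndO

variable {G : Type*} [Group G]

/-- the group generated by the terms of degree at least `h` -/
def N (V : ℕ → Subgroup G) (h : ℕ) : Subgroup G := ⨆ i : ℕ, ⨆ _ : h ≤ i, V i

/-- the group generated by the undoubled terms of degree at least `h` -/
def Lg (X : ℕ → Subgroup G) (lg : ℕ → Prop) (h : ℕ) : Subgroup G := ⨆ i : ℕ, ⨆ _ : h ≤ i ∧ lg i, X i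

theorem le_N (V : ℕ → Subgroup G) {h i : ℕ} (hi : h ≤ i) : V i ≤ N V h :=
  le_iSup₂_of_le (f := fun i (_ : h ≤ i) => V i) i hi le_rfl

theorem N_le {V : ℕ → Subgroup G} {h : ℕ} {K : Subgroup G} (hK : ∀ i, h ≤ i → V i ≤ K) : N V h ≤ K :=
  iSup₂_le hK

theorem N_anti (V : ℕ → Subgroup G) {h k : ℕ} (hk : h ≤ k) : N V k ≤ N V h :=
  N_le fun _ hi => le_N V (hk.trans hi)

theorem N_succ (V : ℕ → Subgroup G) (h : ℕ) : N V h = V h ⊔ N V (h + 1) := by
  apply le_antisymm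
  · refine N_le fun i hi => ?_
    rcases hi.eq_or_lt with rfl | hlt
    · exact le_sup_left
    · exact (le_N V hlt).trans le_sup_right
  · exact sup_le (le_N V le_rfl) (N_anti V (Nat.le_succ h))

theorem le_Lg {X : ℕ → Subgroup G} {lg : ℕ → Prop} {h i : ℕ} (hi : h ≤ i) (hl : lg i) :
    X i ≤ Lg X lg h :=
  le_iSup₂_of_le (f := fun i (_ : h ≤ i ∧ lg i) => X i) i ⟨hi, hl⟩ le_rfl

theorem Lg_le {X : ℕ → Subgroup G} {lg : ℕ → Prop} {h : ℕ} {K : Subgroup G}
    (hK : ∀ i, h ≤ i → lg i → X i ≤ K) : Lg X lg h ≤ K :=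
  iSup₂_le fun i hi => hK i hi.1 hi.2

theorem Lg_anti {X : ℕ → Subgroup G} {lg : ℕ → Prop} {h k : ℕ} (hk : h ≤ k) :
    Lg X lg k ≤ Lg X lg h :=
  Lg_le fun _ hi hl => le_Lg (hk.trans hi) hl

theorem Lg_succ {X : ℕ → Subgroup G} {lg : ℕ → Prop} {h : ℕ} (hl : lg h) :
    Lg X lg h = X h ⊔ Lg X lg (h + 1) := by
  apply le_antisymm
  · refine Lg_le fun i hi hli => ?_
    rcases hi.eq_or_lt with rfl | hlt
    · exact le_sup_left
    · exact (le_Lg hlt hli).trans le_sup_right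
  · exact sup_le (le_Lg le_rfl hl) (Lg_anti (Nat.le_succ h))

theorem Lg_succ' {X : ℕ → Subgroup G} {lg : ℕ → Prop} {h : ℕ} (hl : ¬ lg h) :
    Lg X lg h = Lg X lg (h + 1) := by
  apply le_antisymm
  · refine Lg_le fun i hi hli => ?_
    rcases hi.eq_or_lt with rfl | hlt
    · exact absurd hli hl
    · exact le_Lg hlt hli
  · exact Lg_anti (Nat.le_succ h)

/-- product decomposition of `A ⊔ B` when `A` normalises `B` -/
theorem exists_mul {A B : Subgroup G} (h : ∀ a ∈ A, ∀ b ∈ B, a * b * a⁻¹ ∈ B) {x : G}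
    (hx : x ∈ A ⊔ B) : ∃ a ∈ A, ∃ b ∈ B, x = a * b := by
  let S : Subgroup G :=
    { carrier := {x | ∃ a ∈ A, ∃ b ∈ B, x = a * b}
      one_mem' := ⟨1, one_mem _, 1, one_mem _, (mul_one 1).symm⟩
      mul_mem' := by
        rintro _ _ ⟨a, ha, b, hb, rfl⟩ ⟨a', ha', b', hb', rfl⟩
        refine ⟨a * a', mul_mem ha ha', (a'⁻¹ * b * a'⁻¹⁻¹) * b', mul_mem (h _ (inv_mem ha') _ hb) hb', ?_⟩
        group
      inv_mem' := by
        rintro _ ⟨a, ha, b, hb, rfl⟩
        exact ⟨a⁻¹, inv_mem ha, a * b⁻¹ * a⁻¹, h _ ha _ (inv_mem hb), by group⟩ }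
  have hS : A ⊔ B ≤ S := sup_le (fun a ha => ⟨a, ha, 1, one_mem _, (mul_one a).symm⟩)
    (fun b hb => ⟨1, one_mem _, b, hb, (one_mul b).symm⟩)
  exact hS hx

/-- Graded group with doubled and undoubled pieces. -/
structure Grd (t : G) (V X : ℕ → Subgroup G) (lg : ℕ → Prop) (R n : ℕ) : Prop where
  tt : t * t = 1
  conj : ∀ i, ∀ v ∈ V i, t * v * t ∈ V i
  sq : ∀ i, ∀ v ∈ V i, v * v = 1
  X_le : ∀ i, X i ≤ V i
  X_fix : ∀ i, ∀ x ∈ X i, t * x * t = x
  fix : ∀ i, ∀ v ∈ V i, t * v * t = v → v ∈ X i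
  free : ∀ i, ¬ lg i → ∀ x ∈ X i, ∃ w ∈ V i, w⁻¹ * (t * w * t) = x
  lgV : ∀ i, lg i → V i ≤ X i
  comm : ∀ i j, 1 ≤ i → 1 ≤ j → i ≠ j → ∀ v ∈ V i, ∀ w ∈ V j, v * w * v⁻¹ * w⁻¹ ∈ N V (i + j)
  lcomm : ∀ i j, 1 ≤ i → 1 ≤ j → i ≠ j → lg i → lg j → ∀ v ∈ X i, ∀ w ∈ X j,
    v * w * v⁻¹ * w⁻¹ ∈ Lg X lg (i + j)
  top : ∀ i, n < i → V i = ⊥
  indep : ∀ i, 1 ≤ i → X i ⊓ N X (i + 1) = ⊥
  lR : ∀ i, lg i → i ≤ R

namespace Grd

variable {t : G} {V X : ℕ → Subgroup G} {lg : ℕ → Prop} {R n : ℕ}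

theorem tinv (h : Grd t V X lg R n) : t⁻¹ = t := inv_eq_of_mul_eq_one_left h.tt

theorem conj_mul (h : Grd t V X lg R n) (a b : G) : t * (a * b) * t = (t * a * t) * (t * b * t) := by
  calc t * (a * b) * t = t * a * (1 : G) * b * t := by group
    _ = t * a * (t * t) * b * t := by rw [h.tt]
    _ = (t * a * t) * (t * b * t) := by group

theorem conj_inv (h : Grd t V X lg R n) (a : G) : t * a⁻¹ * t = (t * a * t)⁻¹ := by
  rw [mul_inv_rev, mul_inv_rev, h.tinv, mul_assoc]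

theorem conj_conj (h : Grd t V X lg R n) (a : G) : t * (t * a * t) * t = a := by
  calc t * (t * a * t) * t = (t * t) * a * (t * t) := by group
    _ = a := by rw [h.tt]; group

theorem inv_V (h : Grd t V X lg R n) {i : ℕ} {v : G} (hv : v ∈ V i) : v⁻¹ = v :=
  inv_eq_of_mul_eq_one_left (h.sq i v hv)

theorem V_comm (h : Grd t V X lg R n) {i : ℕ} {v w : G} (hv : v ∈ V i) (hw : w ∈ V i) :
    v * w = w * v := by
  have e1 := h.sq i (v * w) (mul_mem hv hw)
  have e2 := h.inv_V hv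
  have e3 := h.inv_V hw
  have e4 : v * w = (v * w)⁻¹ := by
    rw [eq_inv_iff_mul_eq_one]; exact e1
  rw [e4, mul_inv_rev, e2, e3]

/-- `t`-conjugation preserves `N V k` -/
theorem conj_N (h : Grd t V X lg R n) {k : ℕ} {w : G} (hw : w ∈ N V k) : t * w * t ∈ N V k := by
  let S : Subgroup G :=
    { carrier := {w | t * w * t ∈ N V k}
      one_mem' := by
        show t * 1 * t ∈ N V k
        rw [mul_one, h.tt]; exact one_mem _
      mul_mem' := by
        intro a b ha hb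
        show t * (a * b) * t ∈ N V k
        rw [h.conj_mul]; exact mul_mem ha hb
      inv_mem' := by
        intro a ha
        show t * a⁻¹ * t ∈ N V k
        rw [h.conj_inv]; exact inv_mem ha }
  have hS : N V k ≤ S := N_le fun i hi v hv => le_N V hi (h.conj i v hv)
  exact hS hw

/-- `V j` normalises `N V k` -/
theorem V_norm (h : Grd t V X lg R n) {j k : ℕ} (hj : 1 ≤ j) (hk : 1 ≤ k) {v w : G} (hv : v ∈ V j)
    (hw : w ∈ N V k) : v * w * v⁻¹ ∈ N V k := by
  let S : Subgroup G :=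
    { carrier := {w | v * w * v⁻¹ ∈ N V k}
      one_mem' := by
        show v * 1 * v⁻¹ ∈ N V k
        rw [mul_one, mul_inv_cancel]; exact one_mem _
      mul_mem' := by
        intro a b ha hb
        show v * (a * b) * v⁻¹ ∈ N V k
        have : v * (a * b) * v⁻¹ = (v * a * v⁻¹) * (v * b * v⁻¹) := by group
        rw [this]; exact mul_mem ha hb
      inv_mem' := by
        intro a ha
        show v * a⁻¹ * v⁻¹ ∈ N V k
        have : v * a⁻¹ * v⁻¹ = (v * a * v⁻¹)⁻¹ := by group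
        rw [this]; exact inv_mem ha }
  have hS : N V k ≤ S := N_le fun i hi u hu => by
    show v * u * v⁻¹ ∈ N V k
    by_cases hij : j = i
    · subst hij
      rw [h.V_comm hv hu, mul_inv_cancel_right]
      exact le_N V hi hu
    · have h1 := h.comm j i hj (hk.trans hi) hij v hv u hu
      have h2 : v * u * v⁻¹ = (v * u * v⁻¹ * u⁻¹) * u := by group
      rw [h2]
      exact mul_mem (N_anti V (by omega) h1) (le_N V hi hu)
  exact hS hw

/-- `N V 1` normalises `N V k` -/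
theorem norm (h : Grd t V X lg R n) {k : ℕ} (hk : 1 ≤ k) {m w : G} (hm : m ∈ N V 1)
    (hw : w ∈ N V k) : m * w * m⁻¹ ∈ N V k := by
  let S : Subgroup G :=
    { carrier := {m | (∀ w ∈ N V k, m * w * m⁻¹ ∈ N V k) ∧ ∀ w ∈ N V k, m⁻¹ * w * m ∈ N V k}
      one_mem' := by constructor <;> · intro w hw; simpa using hw
      mul_mem' := by
        rintro a b ⟨ha, ha'⟩ ⟨hb, hb'⟩
        refine ⟨fun w hw => ?_, fun w hw => ?_⟩
        · have : a * b * w * (a * b)⁻¹ = a * (b * w * b⁻¹) * a⁻¹ := by group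
          rw [this]; exact ha _ (hb _ hw)
        · have : (a * b)⁻¹ * w * (a * b) = b⁻¹ * (a⁻¹ * w * a) * b := by group
          rw [this]; exact hb' _ (ha' _ hw)
      inv_mem' := by
        rintro a ⟨ha, ha'⟩
        exact ⟨fun w hw => by simpa using ha' w hw, fun w hw => by simpa using ha w hw⟩ }
  have hS : N V 1 ≤ S := N_le fun i hi v hv =>
    ⟨fun w hw => h.V_norm hi hk hv hw, fun w hw => by
      have := h.V_norm hi hk (inv_mem hv) hw
      rwa [inv_inv] at this⟩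
  exact (hS hm).1 w hw

theorem norm' (h : Grd t V X lg R n) {k : ℕ} (hk : 1 ≤ k) {m w : G} (hm : m ∈ N V 1)
    (hw : w ∈ N V k) : m⁻¹ * w * m ∈ N V k := by
  have := h.norm hk (inv_mem hm) hw
  rwa [inv_inv] at this

/-- the commutator of `N V i` and `N V j` -/
theorem comm_N (h : Grd t V X lg R n) {i j : ℕ} (hi : 1 ≤ i) (hj : 1 ≤ j) {v w : G}
    (hv : v ∈ N V i) (hw : w ∈ N V j) : v * w * v⁻¹ * w⁻¹ ∈ N V (i + j) := by
  have hk : 1 ≤ i + j := by omega
  have step1 : ∀ b, j ≤ b → ∀ w ∈ V b, ∀ v ∈ N V i, v * w * v⁻¹ * w⁻¹ ∈ N V (i + j) := by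
    intro b hb w hw
    let S : Subgroup G :=
      { carrier := {v | v ∈ N V 1 ∧ v * w * v⁻¹ * w⁻¹ ∈ N V (i + j)}
        one_mem' := ⟨one_mem _, by simp⟩
        mul_mem' := by
          rintro a c ⟨ha, ha'⟩ ⟨hc, hc'⟩
          refine ⟨mul_mem ha hc, ?_⟩
          have : a * c * w * (a * c)⁻¹ * w⁻¹ = (a * (c * w * c⁻¹ * w⁻¹) * a⁻¹) * (a * w * a⁻¹ * w⁻¹) := by
            group
          rw [this]
          exact mul_mem (h.norm hk ha hc') ha'
        inv_mem' := by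
          rintro a ⟨ha, ha'⟩
          refine ⟨inv_mem ha, ?_⟩
          have : a⁻¹ * w * a⁻¹⁻¹ * w⁻¹ = a⁻¹ * (a * w * a⁻¹ * w⁻¹)⁻¹ * a := by group
          rw [this]
          exact h.norm' hk ha (inv_mem ha') }
    have hS : N V i ≤ S := N_le fun a ha v hv => by
      refine ⟨le_N V (hi.trans ha) hv, ?_⟩
      by_cases hab : a = b
      · subst hab
        rw [h.V_comm hv hw, mul_inv_cancel_right, mul_inv_cancel]
        exact one_mem _
      · exact N_anti V (by omega) (h.comm a b (hi.trans ha) (hj.trans hb) hab v hv w hw)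
    exact fun v hv => (hS hv).2
  let S : Subgroup G :=
    { carrier := {w | w ∈ N V 1 ∧ v * w * v⁻¹ * w⁻¹ ∈ N V (i + j)}
      one_mem' := ⟨one_mem _, by simp⟩
      mul_mem' := by
        rintro a c ⟨ha, ha'⟩ ⟨hc, hc'⟩
        refine ⟨mul_mem ha hc, ?_⟩
        have : v * (a * c) * v⁻¹ * (a * c)⁻¹ = (v * a * v⁻¹ * a⁻¹) * (a * (v * c * v⁻¹ * c⁻¹) * a⁻¹) := by
          group
        rw [this]
        exact mul_mem ha' (h.norm hk ha hc')
      inv_mem' := by
        rintro a ⟨ha, ha'⟩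
        refine ⟨inv_mem ha, ?_⟩
        have : v * a⁻¹ * v⁻¹ * a⁻¹⁻¹ = a⁻¹ * (v * a * v⁻¹ * a⁻¹)⁻¹ * a := by group
        rw [this]
        exact h.norm' hk ha (inv_mem ha') }
  have hS : N V j ≤ S := N_le fun b hb w hw => ⟨le_N V (hj.trans hb) hw, step1 b hb w hw v hv⟩
  exact (hS hw).2

theorem decomp (h : Grd t V X lg R n) {k : ℕ} (hk : 1 ≤ k) {g : G} (hg : g ∈ N V k) :
    ∃ v ∈ V k, ∃ g' ∈ N V (k + 1), g = v * g' := by
  rw [N_succ] at hg
  exact exists_mul (fun a ha b hb => h.V_norm hk (by omega) ha hb) hg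

theorem top_N (h : Grd t V X lg R n) {k : ℕ} (hk : n < k) : N V k = ⊥ := by
  rw [eq_bot_iff]
  exact N_le fun i hi => (h.top i (by omega)).le

theorem NX_le (h : Grd t V X lg R n) (k : ℕ) : N X k ≤ N V k :=
  N_le fun i hi => (h.X_le i).trans (le_N V hi)

theorem Lg_le_N (h : Grd t V X lg R n) (k : ℕ) : Lg X lg k ≤ N V k :=
  Lg_le fun i hi _ => (h.X_le i).trans (le_N V hi)

theorem fix_Lg (h : Grd t V X lg R n) {k : ℕ} {l : G} (hl : l ∈ Lg X lg k) : t * l * t = l := by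
  let S : Subgroup G :=
    { carrier := {w | t * w * t = w}
      one_mem' := by show t * 1 * t = 1; rw [mul_one, h.tt]
      mul_mem' := by
        intro a b ha hb
        show t * (a * b) * t = a * b
        rw [h.conj_mul]
        have ha' : t * a * t = a := ha
        have hb' : t * b * t = b := hb
        rw [ha', hb']
      inv_mem' := by
        intro a ha
        show t * a⁻¹ * t = a⁻¹
        have ha' : t * a * t = a := ha
        rw [h.conj_inv, ha'] }
  have hS : Lg X lg k ≤ S := Lg_le fun i _ _ x hx => h.X_fix i x hx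
  exact hS hl

/-- `d v = v⁻¹ v^t` lies in `X i` -/
theorem brk (h : Grd t V X lg R n) {i : ℕ} {v : G} (hv : v ∈ V i) : v⁻¹ * (t * v * t) ∈ X i := by
  have h1 := h.conj i v hv
  refine h.fix i _ (mul_mem (inv_mem hv) h1) ?_
  rw [h.conj_mul, h.conj_inv, h.conj_conj, h.inv_V h1, h.inv_V hv]
  exact h.V_comm h1 hv

/-- fixed points of `t` on `N V k` -/
theorem fixed (h : Grd t V X lg R n) : ∀ c k : ℕ, n < k + c → 1 ≤ k →
    ∀ g ∈ N V k, t * g * t = g → g ∈ N X k := by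
  intro c
  induction c with
  | zero =>
    intro k hk _ g hg _
    rw [h.top_N (by omega)] at hg
    rw [Subgroup.mem_bot.1 hg]
    exact one_mem _
  | succ c ih =>
    intro k hk hk1 g hg hfix
    have ih' := ih (k + 1) (by omega) (by omega)
    have hind : ∀ v ∈ V k, v ∈ N V (k + 1) → v = 1 := by
      intro v hv hv'
      have hx : ∀ x ∈ X k, x ∈ N V (k + 1) → x = 1 := by
        intro x hx hx'
        have h1 := ih' x hx' (h.X_fix k x hx)
        have h2 : x ∈ X k ⊓ N X (k + 1) := ⟨hx, h1⟩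
        rw [h.indep k hk1] at h2
        exact Subgroup.mem_bot.1 h2
      have h1 : v⁻¹ * (t * v * t) = 1 := hx _ (h.brk hv) (mul_mem (inv_mem hv') (h.conj_N hv'))
      have h2 : t * v * t = v := by
        rw [inv_mul_eq_one] at h1
        exact h1.symm
      exact hx v (h.fix k v hv h2) hv'
    obtain ⟨v, hv, g', hg', rfl⟩ := h.decomp hk1 hg
    rw [h.conj_mul] at hfix
    have h1 : v⁻¹ * (t * v * t) = g' * (t * g' * t)⁻¹ := by
      rw [inv_mul_eq_iff_eq_mul, ← mul_assoc, eq_mul_inv_iff_mul_eq]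
      exact hfix
    have h2 : v⁻¹ * (t * v * t) = 1 := by
      apply hind _ (mul_mem (inv_mem hv) (h.conj k v hv))
      rw [h1]
      exact mul_mem hg' (inv_mem (h.conj_N hg'))
    have h3 : t * v * t = v := by
      rw [inv_mul_eq_one] at h2
      exact h2.symm
    have h4 : t * g' * t = g' := by
      rw [h3] at hfix
      exact mul_left_cancel hfix
    exact mul_mem (le_N X le_rfl (h.fix k v hv h3)) (N_anti X (Nat.le_succ k) (ih' g' hg' h4))

theorem mem_NX (h : Grd t V X lg R n) {k : ℕ} (hk : 1 ≤ k) {g : G} (hg : g ∈ N V k)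
    (hf : t * g * t = g) : g ∈ N X k :=
  h.fixed (n + 1) k (by omega) hk g hg hf

/-- `V k ⊓ N (k + 1) = 1` -/
theorem ind (h : Grd t V X lg R n) {k : ℕ} (hk : 1 ≤ k) {v : G} (hv : v ∈ V k)
    (hv' : v ∈ N V (k + 1)) : v = 1 := by
  have hx : ∀ x ∈ X k, x ∈ N V (k + 1) → x = 1 := by
    intro x hx hx'
    have h1 := h.mem_NX (by omega) hx' (h.X_fix k x hx)
    have h2 : x ∈ X k ⊓ N X (k + 1) := ⟨hx, h1⟩
    rw [h.indep k hk] at h2
    exact Subgroup.mem_bot.1 h2
  have h1 : v⁻¹ * (t * v * t) = 1 := hx _ (h.brk hv) (mul_mem (inv_mem hv') (h.conj_N hv'))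
  have h2 : t * v * t = v := by
    rw [inv_mul_eq_one] at h1
    exact h1.symm
  exact hx v (h.fix k v hv h2) hv'

theorem eq_of_brk (h : Grd t V X lg R n) {k : ℕ} (hk : 1 ≤ k) {v : G} (hv : v ∈ V k)
    (hv' : v⁻¹ * (t * v * t) ∈ N V (k + 1)) : t * v * t = v := by
  have h1 := h.ind hk (mul_mem (inv_mem hv) (h.conj k v hv)) hv'
  rw [inv_mul_eq_one] at h1
  exact h1.symm

theorem L_decomp (h : Grd t V X lg R n) {k : ℕ} (hk : 1 ≤ k) (hl : lg k) {g : G}
    (hg : g ∈ Lg X lg k) : ∃ x ∈ X k, ∃ g' ∈ Lg X lg (k + 1), g = x * g' := by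
  rw [Lg_succ hl] at hg
  refine exists_mul (fun a ha b hb => ?_) hg
  let S : Subgroup G :=
    { carrier := {w | a * w * a⁻¹ ∈ Lg X lg (k + 1)}
      one_mem' := by
        show a * 1 * a⁻¹ ∈ Lg X lg (k + 1)
        rw [mul_one, mul_inv_cancel]; exact one_mem _
      mul_mem' := by
        intro u w hu hw
        show a * (u * w) * a⁻¹ ∈ Lg X lg (k + 1)
        have : a * (u * w) * a⁻¹ = (a * u * a⁻¹) * (a * w * a⁻¹) := by group
        rw [this]; exact mul_mem hu hw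
      inv_mem' := by
        intro u hu
        show a * u⁻¹ * a⁻¹ ∈ Lg X lg (k + 1)
        have : a * u⁻¹ * a⁻¹ = (a * u * a⁻¹)⁻¹ := by group
        rw [this]; exact inv_mem hu }
  have hS : Lg X lg (k + 1) ≤ S := Lg_le fun i hi hli u hu => by
    show a * u * a⁻¹ ∈ Lg X lg (k + 1)
    have h1 := h.lcomm k i hk (by omega) (by omega) hl hli a ha u hu
    have h2 : a * u * a⁻¹ = (a * u * a⁻¹ * u⁻¹) * u := by group
    rw [h2]
    exact mul_mem (Lg_anti (by omega) h1) (le_Lg hi hli hu)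
  exact hS hb

/-- `Lg 1 ⊓ N V k = Lg k` -/
theorem mem_Lg (h : Grd t V X lg R n) {g : G} (hg : g ∈ Lg X lg 1) : ∀ k : ℕ, 1 ≤ k →
    g ∈ N V k → g ∈ Lg X lg k := by
  intro k hk
  induction k, hk using Nat.le_induction with
  | base => intro _; exact hg
  | succ k hk ih =>
    intro hgk
    have h1 := ih (N_anti V (Nat.le_succ k) hgk)
    by_cases hl : lg k
    · obtain ⟨x, hx, g', hg', rfl⟩ := h.L_decomp hk hl h1
      have h2 : x ∈ N V (k + 1) := by
        have h3 := mul_mem hgk (inv_mem (h.Lg_le_N _ hg'))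
        rwa [mul_inv_cancel_right] at h3
      rw [h.ind hk (h.X_le k hx) h2, one_mul]
      exact hg'
    · rwa [Lg_succ' hl] at h1

/-- Elements of `V k` are central modulo `N (k + 1)`. -/
theorem central (h : Grd t V X lg R n) {k : ℕ} (hk : 1 ≤ k) {m v : G} (hm : m ∈ N V 1)
    (hv : v ∈ N V k) : m * v * m⁻¹ * v⁻¹ ∈ N V (k + 1) := by
  have := h.comm_N le_rfl hk hm hv
  rwa [add_comm] at this

/-- the quotient of `N V 1` by `N V k` -/
theorem exists_quot {G : Type*} [Group G] {t : G} {V X : ℕ → Subgroup G} {lg : ℕ → Prop} {R n : ℕ}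
    (h : Grd t V X lg R n) {k : ℕ} (hk : 1 ≤ k) :
    ∃ K : Subgroup (N V 1), K.Normal ∧ ∀ m : N V 1, m ∈ K ↔ (m : G) ∈ N V k := by
  refine ⟨(N V k).subgroupOf (N V 1), ⟨fun w hw m => ?_⟩, fun m => Subgroup.mem_subgroupOf⟩
  rw [Subgroup.mem_subgroupOf] at hw ⊢
  exact h.norm hk m.2 hw

/-! ### The involutions of `t N 1` -/

theorem alg_one {Q : Type*} [Group Q] {l v d : Q} (hv : ∀ m, v * m = m * v) (hd : ∀ m, d * m = m * d)
    (vv : v * v = 1) : l * (v * d) * 1 * (l * (v * 1)) = l * l * d := by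
  calc l * (v * d) * 1 * (l * (v * 1)) = l * (v * (d * l)) * v := by group
    _ = l * ((d * l) * v) * v := by rw [hv]
    _ = l * (d * l) * (v * v) := by group
    _ = l * (l * d) := by rw [vv, hd, mul_one]
    _ = l * l * d := by group

theorem alg_two {Q : Type*} [Group Q] {l v w : Q} (hv : ∀ m, v * m = m * v) (hw : ∀ m, w * m = m * w)
    (vv : v * v = 1) : l⁻¹ * (v * (w⁻¹ * (l * (v * 1)) * w)) = 1 := by
  have h1 : w⁻¹ * (l * (v * 1)) * w = l * v := by
    rw [mul_one, mul_assoc, ← hw, inv_mul_cancel_left]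
  rw [h1, ← mul_assoc v, hv l, mul_assoc l, vv, mul_one, inv_mul_cancel]

theorem exists_conj_aux (h : Grd t V X lg R n) : ∀ c k : ℕ, n < k + c → 1 ≤ k →
    ∀ l ∈ Lg X lg 1, ∀ g ∈ N V k, (t * (l * g)) * (t * (l * g)) = 1 →
    ∃ w ∈ N V k, ∃ l' ∈ Lg X lg 1, w⁻¹ * (t * (l * g)) * w = t * l' := by
  intro c
  induction c with
  | zero =>
    intro k hk _ l hl g hg _
    rw [h.top_N (by omega)] at hg
    rw [Subgroup.mem_bot.1 hg]
    exact ⟨1, one_mem _, l, hl, by group⟩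
  | succ c ih =>
    intro k hk hk1 l hl g hg hinv
    obtain ⟨v, hv, g', hg', rfl⟩ := h.decomp hk1 hg
    by_cases hlk : lg k
    · obtain ⟨w, hw, l', hl', he⟩ := ih (k + 1) (by omega) (by omega) (l * v)
        (mul_mem hl (le_Lg hk1 hlk (h.lgV k hlk hv))) g' hg' (by
          have : l * v * g' = l * (v * g') := mul_assoc _ _ _
          rw [this]; exact hinv)
      refine ⟨w, N_anti V (Nat.le_succ k) hw, l', hl', ?_⟩
      rw [← he, mul_assoc l v g']
    · have hl1 : l ∈ N V 1 := h.Lg_le_N 1 hl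
      have hvN : v ∈ N V k := le_N V le_rfl hv
      have hv1 : v ∈ N V 1 := N_anti V hk1 hvN
      have hg'1 : g' ∈ N V 1 := N_anti V (by omega) hg'
      have hvv := h.sq k v hv
      have hvi := h.inv_V hv
      obtain ⟨K, hKn, hK⟩ := h.exists_quot (k := k + 1) (by omega)
      let f : N V 1 →* (N V 1 ⧸ K) := QuotientGroup.mk' K
      have hf : ∀ m : N V 1, f m = 1 ↔ (m : G) ∈ N V (k + 1) := fun m => by
        rw [← hK]; exact QuotientGroup.eq_one_iff m
      have hcen : ∀ v : N V 1, (v : G) ∈ N V k → ∀ m : (N V 1 ⧸ K), f v * m = m * f v := by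
        intro v hv m
        obtain ⟨m, rfl⟩ := QuotientGroup.mk'_surjective K m
        have h1 : f (m * v * m⁻¹ * v⁻¹) = 1 := (hf _).2 (h.central hk1 m.2 hv)
        rw [map_mul, map_mul, map_mul, map_inv, map_inv] at h1
        rw [mul_inv_eq_one, mul_inv_eq_iff_eq_mul] at h1
        exact h1.symm
      -- `d v ∈ l⁻² N (k+1)`
      set d := v⁻¹ * (t * v * t) with hd
      have hdX : d ∈ X k := h.brk hv
      have hdV : d ∈ V k := h.X_le k hdX
      have hdN : d ∈ N V k := le_N V le_rfl hdV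
      have hd1 : d ∈ N V 1 := N_anti V hk1 hdN
      have htv : t * v * t = v * d := by rw [hd]; group
      have hfl := h.fix_Lg hl
      have e1 : (t * (l * (v * g'))) * (t * (l * (v * g'))) =
          l * (v * d) * (t * g' * t) * (l * (v * g')) := by
        calc (t * (l * (v * g'))) * (t * (l * (v * g')))
            = (t * (l * (v * g')) * t) * (l * (v * g')) := by group
          _ = _ := by rw [h.conj_mul, h.conj_mul, hfl, htv]; group
      rw [e1] at hinv
      have hdk : l * l * d ∈ N V (k + 1) := by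
        have e2 := alg_one (l := f ⟨l, hl1⟩) (v := f ⟨v, hv1⟩) (d := f ⟨d, hd1⟩)
          (hcen ⟨v, hv1⟩ hvN) (hcen ⟨d, hd1⟩ hdN) (by
            rw [← map_mul, hf]; show v * v ∈ _; rw [hvv]; exact one_mem _)
        have e3 : f ⟨t * g' * t, N_anti V (by omega) (h.conj_N hg')⟩ = 1 :=
          (hf _).2 (h.conj_N hg')
        have e4 : f ⟨g', hg'1⟩ = 1 := (hf _).2 hg'
        have e5 : f ⟨l, hl1⟩ * (f ⟨v, hv1⟩ * f ⟨d, hd1⟩) *
            f ⟨t * g' * t, N_anti V (by omega) (h.conj_N hg')⟩ *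
            (f ⟨l, hl1⟩ * (f ⟨v, hv1⟩ * f ⟨g', hg'1⟩)) = 1 := by
          rw [← map_mul, ← map_mul, ← map_mul, ← map_mul, ← map_mul, ← map_mul, hf]
          show l * (v * d) * (t * g' * t) * (l * (v * g')) ∈ _
          rw [hinv]; exact one_mem _
        rw [e3, e4, e2, ← map_mul, ← map_mul, hf] at e5
        exact e5
      -- so `d v = 1`
      have hd1' : d = 1 := by
        apply h.ind hk1 hdV
        have h1 : l * l * d ∈ N V k := N_anti V (Nat.le_succ k) hdk
        have h2 : l * l ∈ N V k := by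
          have := mul_mem h1 (inv_mem hdN)
          rwa [mul_inv_cancel_right] at this
        have h3 := h.mem_Lg (mul_mem hl hl) k hk1 h2
        rw [Lg_succ' hlk] at h3
        have h4 := mul_mem (inv_mem (h.Lg_le_N _ h3)) hdk
        rwa [inv_mul_cancel_left] at h4
      have htv' : t * v * t = v := by rw [htv, hd1', mul_one]
      obtain ⟨w, hw, hwv⟩ := h.free k hlk v (h.fix k v hv htv')
      have hwN : w ∈ N V k := le_N V le_rfl hw
      have hw1 : w ∈ N V 1 := N_anti V hk1 hwN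
      have hwt : w⁻¹ * t * w = t * v := by
        have h1 : t * w * t = w * v := by rw [← hwv]; group
        have h2 : t * (w⁻¹ * t * w) = v⁻¹ := by
          calc t * (w⁻¹ * t * w) = (t * w * t)⁻¹ * w := by rw [mul_inv_rev, mul_inv_rev, h.tinv]; group
            _ = v⁻¹ := by rw [h1]; group
        rw [hvi] at h2
        rw [← h2, ← mul_assoc, h.tt, one_mul]
      set g3 := l⁻¹ * (v * (w⁻¹ * (l * (v * g')) * w)) with hg3
      have hg3N : g3 ∈ N V (k + 1) := by
        have e2 := alg_two (l := f ⟨l, hl1⟩) (v := f ⟨v, hv1⟩) (w := f ⟨w, hw1⟩)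
          (hcen ⟨v, hv1⟩ hvN) (hcen ⟨w, hw1⟩ hwN) (by
            rw [← map_mul, hf]; show v * v ∈ _; rw [hvv]; exact one_mem _)
        have e4 : f ⟨g', hg'1⟩ = 1 := (hf _).2 hg'
        have e5 : f (⟨l, hl1⟩⁻¹ * (⟨v, hv1⟩ * (⟨w, hw1⟩⁻¹ * (⟨l, hl1⟩ * (⟨v, hv1⟩ * ⟨g', hg'1⟩)) * ⟨w, hw1⟩))) = 1 := by
          rw [map_mul, map_inv, map_mul, map_mul, map_mul, map_inv, map_mul, map_mul, e4]
          exact e2
        exact (hf _).1 e5
      have e6 : w⁻¹ * (t * (l * (v * g'))) * w = t * (l * g3) := by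
        calc w⁻¹ * (t * (l * (v * g'))) * w = (w⁻¹ * t * w) * (w⁻¹ * (l * (v * g')) * w) := by group
          _ = t * (l * g3) := by rw [hwt, hg3]; group
      have hinv' : (t * (l * g3)) * (t * (l * g3)) = 1 := by
        rw [← e6]
        have h1 : w⁻¹ * (t * (l * (v * g'))) * w * (w⁻¹ * (t * (l * (v * g'))) * w) =
            w⁻¹ * ((t * (l * (v * g'))) * (t * (l * (v * g')))) * w := by group
        rw [h1, e1, hinv]; group
      obtain ⟨w', hw', l', hl', he⟩ := ih (k + 1) (by omega) (by omega) l hl g3 hg3N hinv'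
      refine ⟨w * w', mul_mem hwN (N_anti V (Nat.le_succ k) hw'), l', hl', ?_⟩
      rw [← he, ← e6]
      group

/-- every involution of `t N 1` is conjugate to `t ℓ`, `ℓ` in the group generated by the undoubled pieces -/
theorem exists_conj (h : Grd t V X lg R n) {g : G} (hg : g ∈ N V 1) (hinv : (t * g) * (t * g) = 1) :
    ∃ w ∈ N V 1, ∃ l ∈ Lg X lg 1, w⁻¹ * (t * g) * w = t * l := by
  obtain ⟨w, hw, l, hl, he⟩ := h.exists_conj_aux (n + 1) 1 (by omega) le_rfl 1 (one_mem _) g hg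
    (by rw [one_mul]; exact hinv)
  exact ⟨w, hw, l, hl, by rwa [one_mul] at he⟩

/-! ### Centralisers in `N 1` of the elements `t ℓ` -/

theorem card_aux [Finite G] {A B M : Subgroup G} (h : ∀ a ∈ A, ∃ b ∈ B, b⁻¹ * a ∈ M) :
    Nat.card A ≤ Nat.card B * Nat.card (A ⊓ M : Subgroup G) ∧
    (Nat.card B * Nat.card (A ⊓ M : Subgroup G) ≤ Nat.card A → ∀ b ∈ B, ∃ a ∈ A, b⁻¹ * a ∈ M) := by
  classical
  have h' : ∀ a : A, ∃ b : B, (b : G)⁻¹ * a ∈ M := fun a =>
    let ⟨b, hb, hm⟩ := h a a.2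
    ⟨⟨b, hb⟩, hm⟩
  choose β hβ using h'
  let I : Set B := Set.range β
  have hs : ∀ b : I, ∃ a : A, β a = b.1 := fun b => b.2
  choose s hs using hs
  have hmem : ∀ a : A, (s ⟨β a, a, rfl⟩ : G)⁻¹ * a ∈ A ⊓ M := by
    intro a
    refine ⟨A.mul_mem (A.inv_mem (s _).2) a.2, ?_⟩
    have h1 := hβ (s ⟨β a, a, rfl⟩)
    rw [hs] at h1
    have h2 := hβ a
    have h3 := mul_mem (inv_mem h1) h2
    have h4 : (((β a : B) : G)⁻¹ * (s ⟨β a, a, rfl⟩ : G))⁻¹ * (((β a : B) : G)⁻¹ * a) =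
        (s ⟨β a, a, rfl⟩ : G)⁻¹ * a := by group
    rw [← h4]
    exact h3
  let f : A → I × (A ⊓ M : Subgroup G) := fun a => (⟨β a, a, rfl⟩, ⟨_, hmem a⟩)
  have hf : Function.Injective f := by
    intro a a' haa
    have h1 : β a = β a' := congrArg (fun z => (z.1 : B)) haa
    have h2 : (s ⟨β a, a, rfl⟩ : G)⁻¹ * a = (s ⟨β a', a', rfl⟩ : G)⁻¹ * a' :=
      congrArg (fun z => ((z.2 : (A ⊓ M : Subgroup G)) : G)) haa
    have h3 : (⟨β a, a, rfl⟩ : I) = ⟨β a', a', rfl⟩ := Subtype.ext h1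
    rw [h3] at h2
    exact Subtype.ext (mul_left_cancel h2)
  have hle := Nat.card_le_card_of_injective f hf
  rw [Nat.card_prod] at hle
  have hI : Nat.card I ≤ Nat.card B := Nat.card_le_card_of_injective _ Subtype.val_injective
  refine ⟨hle.trans (Nat.mul_le_mul_right _ hI), fun hcard => ?_⟩
  have hpos : 0 < Nat.card (A ⊓ M : Subgroup G) := Nat.card_pos
  have h1 : Nat.card B ≤ Nat.card I := Nat.le_of_mul_le_mul_right (hcard.trans hle) hpos
  have h2 : I = Set.univ := by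
    by_contra hne
    have := Set.ncard_lt_card hne
    rw [← Nat.card_coe_set_eq] at this
    omega
  intro b hb
  have h3 : (⟨b, hb⟩ : B) ∈ I := by rw [h2]; trivial
  obtain ⟨a, ha⟩ := h3
  refine ⟨a, a.2, ?_⟩
  have := hβ a
  rwa [ha] at this

/-- the leading term of an element commuting with `t ℓ` lies in `X k` -/
theorem lead (h : Grd t V X lg R n) {l : G} (hl : l ∈ N V 1) {k : ℕ} (hk : 1 ≤ k) {g : G}
    (hg : g ∈ N V k) (hc : g * (t * l) = t * l * g) : ∃ x ∈ X k, x⁻¹ * g ∈ N V (k + 1) := by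
  obtain ⟨v, hv, g', hg', rfl⟩ := h.decomp hk hg
  refine ⟨v, h.fix k v hv (h.eq_of_brk hk hv ?_), by rw [inv_mul_cancel_left]; exact hg'⟩
  set z := l * (v * g') * l⁻¹ * (v * g')⁻¹ with hz
  have hzN : z ∈ N V (k + 1) := h.central hk hl hg
  have h1 : t * (z * (v * g')) * t = v * g' := by
    have h2 : z * (v * g') = l * (v * g') * l⁻¹ := by rw [hz]; group
    rw [h2]
    calc t * (l * (v * g') * l⁻¹) * t = (t * l * (v * g')) * l⁻¹ * t := by group
      _ = (v * g') * (t * t) := by rw [← hc]; group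
      _ = v * g' := by rw [h.tt, mul_one]
  rw [h.conj_mul z, h.conj_mul v] at h1
  have h2 : v⁻¹ * (t * v * t) = (v⁻¹ * (t * z * t)⁻¹ * v) * (g' * (t * g' * t)⁻¹) := by
    have h3 : t * v * t = (t * z * t)⁻¹ * (v * g') * (t * g' * t)⁻¹ := by
      rw [← h1]; group
    rw [h3]; group
  rw [h2]
  exact mul_mem (h.norm' (by omega) (N_anti V hk (le_N V le_rfl hv)) (inv_mem (h.conj_N hzN)))
    (mul_mem hg' (inv_mem (h.conj_N hg')))

/-- the elements of `N V k` commuting with `t ℓ` -/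
abbrev Cn (t : G) (V : ℕ → Subgroup G) (l : G) (k : ℕ) : Subgroup G :=
  N V k ⊓ Subgroup.centralizer {t * l}

theorem Cn_succ (t : G) (V : ℕ → Subgroup G) (l : G) (k : ℕ) :
    Cn t V l k ⊓ N V (k + 1) = Cn t V l (k + 1) := by
  ext g
  constructor
  · rintro ⟨⟨_, h1⟩, h2⟩; exact ⟨h2, h1⟩
  · rintro ⟨h1, h2⟩; exact ⟨⟨N_anti V (Nat.le_succ k) h1, h2⟩, h1⟩

theorem card_Cn [Finite G] (h : Grd t V X lg R n) {l : G} (hl : l ∈ N V 1) {k : ℕ} (hk : 1 ≤ k) :
    Nat.card (Cn t V l k) ≤ Nat.card (X k) * Nat.card (Cn t V l (k + 1)) ∧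
    (Nat.card (X k) * Nat.card (Cn t V l (k + 1)) ≤ Nat.card (Cn t V l k) →
      ∀ x ∈ X k, ∃ g ∈ Cn t V l k, x⁻¹ * g ∈ N V (k + 1)) := by
  have := card_aux (A := Cn t V l k) (B := X k) (M := N V (k + 1)) (fun g hg =>
    h.lead hl hk hg.1 (Subgroup.mem_centralizer_singleton_iff.1 hg.2))
  rwa [Cn_succ] at this

theorem card_NX [Finite G] (h : Grd t V X lg R n) {k : ℕ} (hk : 1 ≤ k) :
    Nat.card (X k) * Nat.card (N X (k + 1)) ≤ Nat.card (N X k) := by
  rw [← Nat.card_prod]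
  refine Nat.card_le_card_of_injective (fun z : X k × N X (k + 1) =>
    (⟨z.1 * z.2, mul_mem (le_N X le_rfl z.1.2) (N_anti X (Nat.le_succ k) z.2.2)⟩ : N X k)) ?_
  rintro ⟨⟨x, hx⟩, ⟨s, hs⟩⟩ ⟨⟨y, hy⟩, ⟨r, hr⟩⟩ he
  have h1 : x * s = y * r := congrArg (fun z : N X k => (z : G)) he
  have h2 : y⁻¹ * x = r * s⁻¹ := by
    rw [inv_mul_eq_iff_eq_mul, ← mul_assoc, eq_mul_inv_iff_mul_eq]; exact h1
  have h3 : y⁻¹ * x = 1 := h.ind hk (h.X_le k (mul_mem (inv_mem hy) hx)) (by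
    rw [h2]; exact h.NX_le _ (mul_mem hr (inv_mem hs)))
  have h4 : x = y := (inv_mul_eq_one.1 h3).symm
  subst h4
  have h5 : s = r := mul_left_cancel h1
  subst h5
  rfl

theorem card_Cn_le [Finite G] (h : Grd t V X lg R n) {l : G} (hl : l ∈ N V 1) : ∀ c k : ℕ,
    n < k + c → 1 ≤ k → Nat.card (Cn t V l k) ≤ Nat.card (N X k) := by
  intro c
  induction c with
  | zero =>
    intro k hk _
    have h1 : Cn t V l k = ⊥ := by
      rw [eq_bot_iff]
      exact inf_le_left.trans (h.top_N (by omega)).le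
    rw [h1, Subgroup.card_bot]
    exact Nat.card_pos
  | succ c ih =>
    intro k hk hk1
    exact ((h.card_Cn hl hk1).1.trans (Nat.mul_le_mul_left _ (ih (k + 1) (by omega) (by omega)))).trans
      (h.card_NX hk1)

theorem card_Cn_eq [Finite G] (h : Grd t V X lg R n) {l : G} (hl : l ∈ N V 1)
    (hcard : Nat.card (N X 1) ≤ Nat.card (Cn t V l 1)) (k : ℕ) (hk : 1 ≤ k) :
    Nat.card (N X k) ≤ Nat.card (Cn t V l k) := by
  induction k, hk using Nat.le_induction with
  | base => exact hcard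
  | succ k hk ih =>
    have h1 := (h.card_NX hk).trans (ih.trans (h.card_Cn hl hk).1)
    exact Nat.le_of_mul_le_mul_left h1 Nat.card_pos

/-- lifting of all `x ∈ X k` to elements commuting with `t ℓ` -/
theorem lifts [Finite G] (h : Grd t V X lg R n) {l : G} (hl : l ∈ N V 1)
    (hcard : Nat.card (N X 1) ≤ Nat.card (Cn t V l 1)) {k : ℕ} (hk : 1 ≤ k) {x : G} (hx : x ∈ X k) :
    ∃ g' ∈ N V (k + 1), x * g' * (t * l) = t * l * (x * g') := by
  have h1 : Nat.card (X k) * Nat.card (Cn t V l (k + 1)) ≤ Nat.card (Cn t V l k) :=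
    ((Nat.mul_le_mul_left _ (h.card_Cn_le hl (n + 1) (k + 1) (by omega) (by omega))).trans
      (h.card_NX hk)).trans (h.card_Cn_eq hl hcard k hk)
  obtain ⟨g, hg, hgN⟩ := (h.card_Cn hl hk).2 h1 x hx
  refine ⟨x⁻¹ * g, hgN, ?_⟩
  rw [mul_inv_cancel_left]
  exact Subgroup.mem_centralizer_singleton_iff.1 hg.2

/-- `g⁻¹ g^t` has no leading term in an undoubled degree -/
theorem brk_lg (h : Grd t V X lg R n) {g : G} (hg : g ∈ N V 1) {p : ℕ} (hp : 1 ≤ p) (hlp : lg p)
    (he : g⁻¹ * (t * g * t) ∈ N V p) : g⁻¹ * (t * g * t) ∈ N V (p + 1) := by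
  have main : ∀ i, 1 ≤ i → i ≤ p → ∃ g' ∈ N V i, g'⁻¹ * (t * g' * t) = g⁻¹ * (t * g * t) := by
    intro i hi
    induction i, hi using Nat.le_induction with
    | base => intro _; exact ⟨g, hg, rfl⟩
    | succ i hi ih =>
      intro hip
      obtain ⟨g1, hg1, he1⟩ := ih (by omega)
      obtain ⟨v, hv, g', hg', rfl⟩ := h.decomp hi hg1
      have h1 : v⁻¹ * (t * v * t) ∈ N V (i + 1) := by
        have h2 : v⁻¹ * (t * v * t) = g' * ((v * g')⁻¹ * (t * (v * g') * t)) * (t * g' * t)⁻¹ := by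
          rw [h.conj_mul]; group
        rw [h2, he1]
        exact mul_mem (mul_mem hg' (N_anti V hip he)) (inv_mem (h.conj_N hg'))
      have h3 := h.eq_of_brk hi hv h1
      refine ⟨g', hg', ?_⟩
      rw [← he1, h.conj_mul, h3]
      group
  obtain ⟨g1, hg1, he1⟩ := main p hp le_rfl
  obtain ⟨v, hv, g', hg', rfl⟩ := h.decomp hp hg1
  have h3 : t * v * t = v := h.X_fix p v (h.lgV p hlp hv)
  rw [← he1, h.conj_mul, h3]
  have h4 : (v * g')⁻¹ * (v * (t * g' * t)) = g'⁻¹ * (t * g' * t) := by group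
  rw [h4]
  exact mul_mem (inv_mem hg') (h.conj_N hg')

theorem Lg_top (h : Grd t V X lg R n) {g : G} (hg : g ∈ Lg X lg (R + 1)) : g = 1 := by
  have h1 : Lg X lg (R + 1) ≤ ⊥ := Lg_le fun i hi hl => by
    have := h.lR i hl
    omega
  exact Subgroup.mem_bot.1 (h1 hg)

/-- leading term of an element of `Lg` -/
theorem Lg_lead (h : Grd t V X lg R n) : ∀ c k : ℕ, R < k + c → 1 ≤ k → ∀ l ∈ Lg X lg k, l ≠ 1 →
    ∃ m, k ≤ m ∧ lg m ∧ ∃ x ∈ X m, x ≠ 1 ∧ ∃ l' ∈ Lg X lg (m + 1), l = x * l' := by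
  intro c
  induction c with
  | zero =>
    intro k hk _ l hl hl1
    exact absurd (h.Lg_top (Lg_anti (by omega) hl)) hl1
  | succ c ih =>
    intro k hk hk1 l hl hl1
    by_cases hlk : lg k
    · obtain ⟨x, hx, l', hl', rfl⟩ := h.L_decomp hk1 hlk hl
      by_cases hx1 : x = 1
      · subst hx1
        rw [one_mul] at hl1
        obtain ⟨m, hm, hlm, y, hy, hy1, l'', hl'', rfl⟩ := ih (k + 1) (by omega) (by omega) l' hl' hl1
        exact ⟨m, by omega, hlm, y, hy, hy1, l'', hl'', by rw [one_mul]⟩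
      · exact ⟨k, le_rfl, hlk, x, hx, hx1, l', hl', rfl⟩
    · rw [Lg_succ' hlk] at hl
      obtain ⟨m, hm, hlm, y, hy, hy1, l'', hl'', rfl⟩ := ih (k + 1) (by omega) (by omega) l hl hl1
      exact ⟨m, by omega, hlm, y, hy, hy1, l'', hl'', rfl⟩

/-- an extremal `t ℓ` has `ℓ ∈ X R` -/
theorem mem_R_of_card [Finite G] (h : Grd t V X lg R n)
    (push : ∀ i, 1 ≤ i → lg i → i ≠ R → ∀ x ∈ X i, x ≠ 1 → ∃ j, 1 ≤ j ∧ lg j ∧ lg (i + j) ∧
      ∃ y ∈ X j, y * x * y⁻¹ * x⁻¹ ∈ X (i + j) ∧ y * x ≠ x * y)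
    {l : G} (hl : l ∈ Lg X lg 1)
    (hcard : Nat.card (N X 1) ≤ Nat.card (Cn t V l 1)) : l ∈ X R := by
  have hl1 := h.Lg_le_N 1 hl
  by_cases hne : l = 1
  · rw [hne]; exact one_mem _
  obtain ⟨m, hm, hlm, x, hx, hx1, l', hl', rfl⟩ := h.Lg_lead (R + 1) 1 (by omega) le_rfl l hl hne
  by_cases hmR : m = R
  · subst hmR
    rw [h.Lg_top hl', mul_one]; exact hx
  exfalso
  obtain ⟨j, hj, hlj, hlmj, y, hy, hyx, hyx'⟩ := push m hm hlm hmR x hx hx1
  obtain ⟨g', hg', hcomm⟩ := h.lifts hl1 hcard hj hy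
  have hx1' : x ∈ N V m := le_N V le_rfl (h.X_le m hx)
  have hy1' : y ∈ N V j := le_N V le_rfl (h.X_le j hy)
  have hlN : l' ∈ N V (m + 1) := h.Lg_le_N _ hl'
  have hy1 : y ∈ N V 1 := N_anti V hj hy1'
  have hx1'' : x ∈ N V 1 := N_anti V hm hx1'
  have hg1 : g' ∈ N V 1 := N_anti V (by omega) hg'
  have hty : t * y * t = y := h.X_fix j y hy
  -- `e = g'⁻¹ (t g' t)`
  set l := x * l' with hldef
  have he : g'⁻¹ * (t * g' * t) = g'⁻¹ * y⁻¹ * (l * (y * g') * l⁻¹) := by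
    have h1 : t * (y * g') * t = l * (y * g') * l⁻¹ := by
      have h2 : l * (y * g') * l⁻¹ = t * (t * l * (y * g')) * l⁻¹ := by
        calc l * (y * g') * l⁻¹ = (t * t) * l * (y * g') * l⁻¹ := by rw [h.tt]; group
          _ = _ := by group
      rw [h2, ← hcomm]
      have h3 := h.fix_Lg hl
      have h4 : l * t = t * l := by
        calc l * t = (t * l * t) * t := by rw [h3]
          _ = t * l * (t * t) := by group
          _ = t * l := by rw [h.tt, mul_one]
      calc t * (y * g') * t = t * (y * g' * (t * l)) * l⁻¹ * (t * l * t) * l⁻¹ * t * t⁻¹ * l * l⁻¹ := by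
            rw [h3]; group
        _ = t * (y * g' * (t * l)) * l⁻¹ := by rw [h3]; group
    rw [h.conj_mul, hty] at h1
    rw [mul_assoc g'⁻¹ y⁻¹, ← h1]
    group
  -- modulo `N (m + j + 1)`
  have hmj : 1 ≤ m + j := by omega
  have hmj1 : 1 ≤ m + j + 1 := by omega
  -- `[l, g'] ∈ N (m + j + 1)`
  have hlNm : l ∈ N V m := mul_mem hx1' (N_anti V (by omega) hlN)
  have c1 : l * g' * l⁻¹ * g'⁻¹ ∈ N V (m + j + 1) := by
    have := h.comm_N hm (by omega : 1 ≤ j + 1) hlNm hg'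
    rwa [← add_assoc] at this
  -- `[l', y] ∈ N (m + j + 1)`
  have c2 : l' * y * l'⁻¹ * y⁻¹ ∈ N V (m + j + 1) := by
    have := h.comm_N (by omega : 1 ≤ m + 1) hj hlN hy1'
    rwa [show m + 1 + j = m + j + 1 by ring] at this
  -- `[y, x] ∈ X (m + j)`
  set z := y⁻¹ * (x * y * x⁻¹) with hz
  have hyi : y⁻¹ = y := h.inv_V (h.X_le j hy)
  have hz' : z = y * x * y⁻¹ * x⁻¹ := by
    rw [hz, hyi]; simp only [mul_assoc]
  have hzX : z ∈ X (m + j) := by rw [hz']; exact hyx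
  have hzne : z ≠ 1 := by
    rw [hz']
    intro h0
    exact hyx' (mul_inv_eq_one.1 (by rw [mul_inv_rev, ← mul_assoc]; exact h0))
  set c₁ := l * g' * l⁻¹ * g'⁻¹ with hc1
  set c₂ := l' * y * l'⁻¹ * y⁻¹ with hc2
  have he2 : g'⁻¹ * y⁻¹ * (l * (y * g') * l⁻¹) =
      (g'⁻¹ * (y⁻¹ * (x * c₂ * x⁻¹) * y) * g') * (g'⁻¹ * z * g') * (g'⁻¹ * c₁ * g') := by
    rw [hc1, hc2, hz, hldef]; group
  rw [he2] at he
  have hA : g'⁻¹ * (y⁻¹ * (x * c₂ * x⁻¹) * y) * g' ∈ N V (m + j + 1) :=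
    h.norm' hmj1 hg1 (h.norm' hmj1 hy1 (h.norm hmj1 hx1'' c2))
  have hB : g'⁻¹ * c₁ * g' ∈ N V (m + j + 1) := h.norm' hmj1 hg1 c1
  have hE : g'⁻¹ * (t * g' * t) ∈ N V (m + j) := by
    rw [he]
    exact mul_mem (mul_mem (N_anti V (Nat.le_succ _) hA)
      (h.norm' hmj hg1 (le_N V le_rfl (h.X_le _ hzX)))) (N_anti V (Nat.le_succ _) hB)
  have hE1 := h.brk_lg hg1 hmj hlmj hE
  rw [he] at hE1
  have hzN : z ∈ N V (m + j + 1) := by
    have h1 := mul_mem (mul_mem (inv_mem hA) hE1) (inv_mem hB)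
    have h2 := h.norm hmj1 hg1 h1
    have h3 : g' * ((g'⁻¹ * (y⁻¹ * (x * c₂ * x⁻¹) * y) * g')⁻¹ *
        (g'⁻¹ * (y⁻¹ * (x * c₂ * x⁻¹) * y) * g' * (g'⁻¹ * z * g') * (g'⁻¹ * c₁ * g')) *
        (g'⁻¹ * c₁ * g')⁻¹) * g'⁻¹ = z := by group
    rwa [h3] at h2
  exact hzne (h.ind hmj (h.X_le _ hzX) hzN)

end Grd

/-! ### Transfer -/

/-- `N ∪ t N` -/
def Ht (t : G) (M : Subgroup G) (tt : t * t = 1) (hM : ∀ g ∈ M, t * g * t ∈ M) : Subgroup G where
  carrier := {g | g ∈ M ∨ t * g ∈ M}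
  one_mem' := Or.inl (one_mem _)
  mul_mem' := by
    rintro a b (ha | ha) (hb | hb)
    · exact Or.inl (mul_mem ha hb)
    · right
      have : t * (a * b) = (t * a * t) * (t * b) := by
        calc t * (a * b) = t * a * 1 * b := by group
          _ = t * a * (t * t) * b := by rw [tt]
          _ = _ := by group
      rw [this]; exact mul_mem (hM a ha) hb
    · right
      rw [← mul_assoc]; exact mul_mem ha hb
    · left
      have : a * b = (t * (t * a) * t) * (t * b) := by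
        calc a * b = 1 * a * 1 * b := by group
          _ = (t * t) * a * (t * t) * b := by rw [tt]
          _ = _ := by group
      rw [this]; exact mul_mem (hM _ ha) hb
  inv_mem' := by
    rintro a (ha | ha)
    · exact Or.inl (inv_mem ha)
    · right
      have hti : t⁻¹ = t := inv_eq_of_mul_eq_one_left tt
      have h1 := hM _ (inv_mem ha)
      have h2 : t * (t * a)⁻¹ * t = t * a⁻¹ := by
        rw [mul_inv_rev, hti]
        calc t * (a⁻¹ * t) * t = t * a⁻¹ * (t * t) := by group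
          _ = t * a⁻¹ := by rw [tt, mul_one]
      rwa [h2] at h1

theorem mem_Ht {t : G} {M : Subgroup G} {tt : t * t = 1} {hM : ∀ g ∈ M, t * g * t ∈ M} {g : G} :
    g ∈ Ht t M tt hM ↔ g ∈ M ∨ t * g ∈ M := Iff.rfl

theorem mul_mem_iff {t : G} {M : Subgroup G} (tt : t * t = 1) (hM : ∀ g ∈ M, t * g * t ∈ M)
    {a b : G} (ha : a ∈ Ht t M tt hM) (hb : b ∈ Ht t M tt hM) (ha' : a ∉ M) (hb' : b ∉ M) : a * b ∈ M := by
  have ha1 := (mem_Ht.1 ha).resolve_left ha'
  have hb1 := (mem_Ht.1 hb).resolve_left hb'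
  have : a * b = (t * (t * a) * t) * (t * b) := by
    calc a * b = 1 * a * 1 * b := by group
      _ = (t * t) * a * (t * t) * b := by rw [tt]
      _ = _ := by group
  rw [this]; exact mul_mem (hM _ ha1) hb1

open Classical in
/-- the sign of `N ∪ t N` -/
noncomputable def sgn (t : G) (M : Subgroup G) (tt : t * t = 1) (hM : ∀ g ∈ M, t * g * t ∈ M) :
    Ht t M tt hM →* ℤˣ where
  toFun g := if (g : G) ∈ M then 1 else -1
  map_one' := if_pos (one_mem _)
  map_mul' := by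
    intro a b
    show (if (a : G) * b ∈ M then (1 : ℤˣ) else -1) = _
    by_cases ha : (a : G) ∈ M <;> by_cases hb : (b : G) ∈ M
    · rw [if_pos ha, if_pos hb, if_pos (mul_mem ha hb), mul_one]
    · rw [if_pos ha, if_neg hb, if_neg, one_mul]
      intro h
      exact hb ((M.mul_mem_cancel_left ha).1 h)
    · rw [if_neg ha, if_pos hb, if_neg, mul_one]
      intro h
      exact ha ((M.mul_mem_cancel_right hb).1 h)
    · rw [if_neg ha, if_neg hb, if_pos (mul_mem_iff tt hM a.2 b.2 ha hb)]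
      norm_num

open Classical in
theorem sgn_apply {t : G} {M : Subgroup G} {tt : t * t = 1} {hM : ∀ g ∈ M, t * g * t ∈ M}
    (g : Ht t M tt hM) : sgn t M tt hM g = if (g : G) ∈ M then 1 else -1 := rfl

theorem card_Ht [Finite G] {t : G} {M : Subgroup G} (tt : t * t = 1) (hM : ∀ g ∈ M, t * g * t ∈ M)
    {u : G} (hu : u ∈ Ht t M tt hM) (huM : u ∉ M) :
    Nat.card (Ht t M tt hM ⊓ Subgroup.centralizer {u} : Subgroup G) =
      2 * Nat.card (M ⊓ Subgroup.centralizer {u} : Subgroup G) := by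
  set C := Subgroup.centralizer ({u} : Set G) with hC
  have hle : M ⊓ C ≤ Ht t M tt hM ⊓ C := fun g hg => ⟨Or.inl hg.1, hg.2⟩
  have h2 : (M ⊓ C).relIndex (Ht t M tt hM ⊓ C) = 2 := by
    rw [Subgroup.relIndex_eq_two_iff]
    have huC : u ∈ C := Subgroup.mem_centralizer_singleton_iff.2 rfl
    refine ⟨u, ⟨hu, huC⟩, fun b hb => ?_⟩
    by_cases hbM : b ∈ M
    · refine Or.inr ⟨⟨hbM, hb.2⟩, fun h => huM ((M.mul_mem_cancel_left hbM).1 h.1)⟩
    · exact Or.inl ⟨⟨mul_mem_iff tt hM hb.1 hu hbM huM, mul_mem hb.2 huC⟩, fun h => hbM h.1⟩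
  have h3 := Subgroup.relIndex_mul_relIndex ⊥ _ _ bot_le hle
  rw [Subgroup.relIndex_bot_left, Subgroup.relIndex_bot_left, h2] at h3
  rw [← h3, mul_comm]

theorem card_centralizer_eq [Finite G] (H : Subgroup G) (u : G) :
    Nat.card (Subgroup.centralizer ({u} : Set G)) =
      Nat.card (H ⊓ Subgroup.centralizer {u} : Subgroup G) * H.relIndex (Subgroup.centralizer {u}) := by
  have h3 := Subgroup.relIndex_mul_relIndex ⊥ (H ⊓ Subgroup.centralizer {u})
    (Subgroup.centralizer ({u} : Set G)) bot_le inf_le_right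
  rw [Subgroup.relIndex_bot_left, Subgroup.relIndex_bot_left, Subgroup.inf_relIndex_right] at h3
  exact h3.symm

theorem card_centralizer_conj (t g : G) :
    Nat.card (Subgroup.centralizer ({g⁻¹ * t * g} : Set G)) =
      Nat.card (Subgroup.centralizer ({t} : Set G)) := by
  refine Nat.card_congr ⟨fun x => ⟨g * x * g⁻¹, ?_⟩, fun x => ⟨g⁻¹ * x * g, ?_⟩, fun x => ?_, fun x => ?_⟩
  · rw [Subgroup.mem_centralizer_singleton_iff]
    have h1 := Subgroup.mem_centralizer_singleton_iff.1 x.2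
    calc g * x * g⁻¹ * t = g * (x * (g⁻¹ * t * g)) * g⁻¹ := by group
      _ = g * ((g⁻¹ * t * g) * x) * g⁻¹ := by rw [h1]
      _ = t * (g * x * g⁻¹) := by group
  · rw [Subgroup.mem_centralizer_singleton_iff]
    have h1 := Subgroup.mem_centralizer_singleton_iff.1 x.2
    calc g⁻¹ * x * g * (g⁻¹ * t * g) = g⁻¹ * (x * t) * g := by group
      _ = g⁻¹ * (t * x) * g := by rw [h1]
      _ = g⁻¹ * t * g * (g⁻¹ * x * g) := by group
  · apply Subtype.ext; show g⁻¹ * (g * x * g⁻¹) * g = x; group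
  · apply Subtype.ext; show g * (g⁻¹ * x * g) * g⁻¹ = x; group

/-- **transfer to `M ∪ t M`**, `M` a 2-group normalised by the involution `t ∉ M`: only the conjugates
`t g` of `t` in `t M` with `|C_M(t g)| = |C_M(t)|` matter. -/
theorem exists_hom_of_extremal [Finite G] {t : G} {M : Subgroup G} (tt : t * t = 1)
    (hM : ∀ g ∈ M, t * g * t ∈ M) (htM : t ∉ M) (hp : IsPGroup 2 M) {T : Subgroup G}
    (hT : ∀ x ∈ T, x ∈ M ∨ t * x ∈ M) (hodd : Odd (T.relIndex (Subgroup.centralizer {t})))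
    (hext : ∀ g ∈ M, (t * g) * (t * g) = 1 → IsConj t (t * g) →
      Nat.card (M ⊓ Subgroup.centralizer {t * g} : Subgroup G) =
        Nat.card (M ⊓ Subgroup.centralizer {t} : Subgroup G) → ∃ w ∈ M, w⁻¹ * (t * g) * w = t) :
    ∃ m : G →* ℤˣ, m t = -1 := by
  classical
  have htH : t ∈ Ht t M tt hM := Or.inr (by rw [tt]; exact one_mem _)
  have hodd' : Odd ((Ht t M tt hM).relIndex (Subgroup.centralizer {t})) :=
    hodd.of_dvd_nat (Subgroup.relIndex_dvd_of_le_left _ (fun x hx => hT x hx))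
  refine ⟨MonoidHom.transfer (sgn t M tt hM), ?_⟩
  rw [GTwoFour.TransferTL.transfer_eq (Ht t M tt hM) (sgn t M tt hM) t tt htH ?_ hodd', sgn_apply, if_neg htM]
  intro g hg hs hg'
  set u := g⁻¹ * t * g with hu
  have huM : u ∉ M := by
    intro h
    apply hs
    rw [sgn_apply, if_pos h]
  have hc1 := card_centralizer_eq (Ht t M tt hM) u
  have hc2 := card_centralizer_eq (Ht t M tt hM) t
  rw [card_Ht tt hM hg huM] at hc1
  rw [card_Ht tt hM htH htM] at hc2
  have hc3 : Nat.card (Subgroup.centralizer ({u} : Set G)) = Nat.card (Subgroup.centralizer ({t} : Set G)) :=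
    card_centralizer_conj t g
  rw [hc1, hc2] at hc3
  have hpow : ∀ v : G, ∃ k : ℕ, Nat.card (M ⊓ Subgroup.centralizer {v} : Subgroup G) = 2 ^ k := by
    intro v
    have h1 : IsPGroup 2 (M ⊓ Subgroup.centralizer {v} : Subgroup G) := hp.to_le inf_le_left
    exact IsPGroup.iff_card.1 h1
  obtain ⟨a, ha⟩ := hpow u
  obtain ⟨b, hb⟩ := hpow t
  have hab : a = b := by
    rw [ha, hb] at hc3
    have h1 : 2 ^ a * (Ht t M tt hM).relIndex (Subgroup.centralizer {u}) =
        2 ^ b * (Ht t M tt hM).relIndex (Subgroup.centralizer {t}) := by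
      have h2 : 2 * (2 ^ a * (Ht t M tt hM).relIndex (Subgroup.centralizer {u})) =
        2 * (2 ^ b * (Ht t M tt hM).relIndex (Subgroup.centralizer {t})) := by
        rw [← mul_assoc, ← mul_assoc]; exact hc3
      exact Nat.eq_of_mul_eq_mul_left two_pos h2
    apply le_antisymm
    · have h2 : 2 ^ a ∣ 2 ^ b * (Ht t M tt hM).relIndex (Subgroup.centralizer {t}) := ⟨_, h1.symm⟩
      have h3 : Nat.Coprime (2 ^ a) ((Ht t M tt hM).relIndex (Subgroup.centralizer {t})) :=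
        (Nat.Coprime.pow_left a (Nat.coprime_two_left.2 hodd'))
      exact (Nat.pow_dvd_pow_iff_le_right (by norm_num)).1 (h3.dvd_of_dvd_mul_right h2)
    · have h2 : 2 ^ b ∣ 2 ^ a * (Ht t M tt hM).relIndex (Subgroup.centralizer {u}) := ⟨_, h1⟩
      have h3 : Nat.Coprime (2 ^ b) ((Ht t M tt hM).relIndex (Subgroup.centralizer {u})) :=
        (Nat.Coprime.pow_left b (Nat.coprime_two_left.2 hg'))
      exact (Nat.pow_dvd_pow_iff_le_right (by norm_num)).1 (h3.dvd_of_dvd_mul_right h2)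
  have htu : t * u ∈ M := (mem_Ht.1 hg).resolve_left huM
  have htu' : t * (t * u) = u := by rw [← mul_assoc, tt, one_mul]
  have huu : u * u = 1 := by
    rw [hu]
    calc g⁻¹ * t * g * (g⁻¹ * t * g) = g⁻¹ * (t * t) * g := by group
      _ = 1 := by rw [tt]; group
  obtain ⟨w, hw, hwe⟩ := hext (t * u) htu (by rw [htu']; exact huu) (by
      rw [htu', isConj_iff]; exact ⟨g⁻¹, by rw [inv_inv]⟩) (by rw [htu', ha, hb, hab])
  rw [htu'] at hwe
  refine ⟨w⁻¹, Or.inl (inv_mem hw), ?_⟩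
  rw [← hwe]
  group

theorem mem_inf_cent {M : Subgroup G} {u g : G} :
    g ∈ M ⊓ Subgroup.centralizer {u} ↔ g ∈ M ∧ g * u = u * g := by
  rw [Subgroup.mem_inf, Subgroup.mem_centralizer_singleton_iff]

namespace Grd

variable {t : G} {V X : ℕ → Subgroup G} {lg : ℕ → Prop} {R n : ℕ}

theorem isPGroup (h : Grd t V X lg R n) : IsPGroup 2 (N V 1) := by
  have main : ∀ c, ∀ g ∈ N V 1, g ^ (2 ^ c) ∈ N V (1 + c) := by
    intro c
    induction c with
    | zero => intro g hg; simpa using hg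
    | succ c ih =>
      intro g hg
      obtain ⟨v, hv, g', hg', he⟩ := h.decomp (by omega) (ih g hg)
      rw [pow_succ, pow_mul, he, pow_two]
      have h1 : v * g' * (v * g') = (v * v) * (v⁻¹ * g' * v) * g' := by group
      rw [h1, h.sq _ v hv, one_mul]
      have hv1 : v ∈ N V 1 := le_N V (by omega) hv
      exact mul_mem (h.norm' (by omega) hv1 hg') hg'
  intro g
  refine ⟨n, ?_⟩
  apply Subtype.ext
  rw [Subgroup.coe_pow]
  have h1 := main n g g.2
  rw [h.top_N (by omega)] at h1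
  exact Subgroup.mem_bot.1 h1

theorem inf_centralizer (h : Grd t V X lg R n) :
    N V 1 ⊓ Subgroup.centralizer {t} = N X 1 := by
  apply le_antisymm
  · rintro g ⟨h1, h2⟩
    refine h.mem_NX le_rfl h1 ?_
    rw [← Subgroup.mem_centralizer_singleton_iff.1 h2, mul_assoc, h.tt, mul_one]
  · refine N_le fun i hi x hx => mem_inf_cent.2 ⟨le_N V hi (h.X_le i hx), ?_⟩
    calc x * t = (t * x * t) * t := by rw [h.X_fix i x hx]
      _ = t * x * (t * t) := by group
      _ = t * x := by rw [h.tt, mul_one]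

/-- (b') -/
theorem exists_hom' [Finite G] (h : Grd t V X lg R n) (ht : t ∉ N X 1)
    (hodd : Odd ((N X 1 ⊔ Subgroup.zpowers t).relIndex (Subgroup.centralizer {t})))
    (hext : ∀ l ∈ Lg X lg 1, l ≠ 1 → l * l = 1 →
      Nat.card (Cn t V l 1) = Nat.card (N X 1) → ¬ IsConj t (t * l)) :
    ∃ m : G →* ℤˣ, m t = -1 := by
  have htN : t ∉ N V 1 := fun h' => ht (h.mem_NX le_rfl h' (by rw [h.tt, one_mul]))
  refine exists_hom_of_extremal h.tt (fun g hg => h.conj_N hg) htN h.isPGroup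
    (T := N X 1 ⊔ Subgroup.zpowers t) ?_ hodd ?_
  · have : N X 1 ⊔ Subgroup.zpowers t ≤ Ht t (N V 1) h.tt (fun g hg => h.conj_N hg) := by
      refine sup_le (fun x hx => Or.inl (h.NX_le 1 hx)) ?_
      rw [Subgroup.zpowers_le]
      exact Or.inr (by rw [h.tt]; exact one_mem _)
    exact fun x hx => this hx
  · intro g hg hinv hconj hcard
    rw [h.inf_centralizer] at hcard
    obtain ⟨w, hw, l, hl, he⟩ := h.exists_conj hg hinv
    refine ⟨w, hw, ?_⟩
    have hl1 : l = 1 := by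
      by_contra hne
      refine hext l hl hne ?_ ?_ ?_
      · have h1 : t * l * (t * l) = 1 := by
          rw [← he]
          calc w⁻¹ * (t * g) * w * (w⁻¹ * (t * g) * w) = w⁻¹ * ((t * g) * (t * g)) * w := by group
            _ = 1 := by rw [hinv]; group
        have h2 := h.fix_Lg hl
        calc l * l = (t * l * t) * l := by rw [h2]
          _ = t * l * (t * l) := by group
          _ = 1 := h1
      · rw [← hcard]
        refine Nat.card_congr ⟨fun x => ⟨w * x * w⁻¹, mem_inf_cent.2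
          ⟨mul_mem (mul_mem hw (mem_inf_cent.1 x.2).1) (inv_mem hw), ?_⟩⟩, fun x => ⟨w⁻¹ * x * w,
          mem_inf_cent.2 ⟨mul_mem (mul_mem (inv_mem hw) (mem_inf_cent.1 x.2).1) hw, ?_⟩⟩,
          fun x => ?_, fun x => ?_⟩
        · have h1 := (mem_inf_cent.1 x.2).2
          have h2 : t * g = w * (t * l) * w⁻¹ := by rw [← he]; group
          rw [h2]
          calc w * x * w⁻¹ * (w * (t * l) * w⁻¹) = w * (x * (t * l)) * w⁻¹ := by group
            _ = w * (t * l * x) * w⁻¹ := by rw [h1]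
            _ = w * (t * l) * w⁻¹ * (w * x * w⁻¹) := by group
        · have h1 := (mem_inf_cent.1 x.2).2
          rw [← he]
          calc w⁻¹ * x * w * (w⁻¹ * (t * g) * w) = w⁻¹ * (x * (t * g)) * w := by group
            _ = w⁻¹ * (t * g * x) * w := by rw [h1]
            _ = w⁻¹ * (t * g) * w * (w⁻¹ * x * w) := by group
        · apply Subtype.ext; show w⁻¹ * (w * x * w⁻¹) * w = x; group
        · apply Subtype.ext; show w * (w⁻¹ * x * w) * w⁻¹ = x; group
      · refine hconj.trans ?_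
        rw [isConj_iff]
        exact ⟨w⁻¹, by rw [inv_inv, he]⟩
    rw [he, hl1, mul_one]

/-- (b) -/
theorem exists_hom [Finite G] (h : Grd t V X lg R n)
    (push : ∀ i, 1 ≤ i → lg i → i ≠ R → ∀ x ∈ X i, x ≠ 1 → ∃ j, 1 ≤ j ∧ lg j ∧ lg (i + j) ∧
      ∃ y ∈ X j, y * x * y⁻¹ * x⁻¹ ∈ X (i + j) ∧ y * x ≠ x * y)
    (ht : t ∉ N X 1)
    (hodd : Odd ((N X 1 ⊔ Subgroup.zpowers t).relIndex (Subgroup.centralizer {t})))
    (hR : ∀ x ∈ X R, x ≠ 1 → ¬ IsConj t (t * x)) :
    ∃ m : G →* ℤˣ, m t = -1 :=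
  h.exists_hom' ht hodd fun _ hl hne _ hcard => hR _ (h.mem_R_of_card push hl hcard.ge) hne

end Grd

end Cfsg.Agent.OddHalf.F4.EndO
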