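import Mathlib
import Cfsg.Agent.OddHalf.F4.EndO
import Cfsg.Agent.OddHalf.Out.Exclude
import Cfsg.Agent.OddHalf.Out.Transfer
import Cfsg.Agent.OddHalf.D7F4.LevelsEnd

/-!
# Graded groups with doubled and undoubled pieces, with an outer 2-part

`t` an involution, `T` a Sylow 2-subgroup of `C_G(t)`, `U* = N V 1` graded (`Grd`), normalised by `T`,
`T ∩ U* = U = N X 1`, `T / U` abelian, `S = T U*` (`Out.Exclude.Fr`).

* `transfer_ne_one`: transfer at `t` where only the conjugates `g⁻¹ t g` with `g⁻¹ T g ≤ S` are controlled.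
* `not_mem_commutator`: the same for `S / U*`.
* `card_cent_sq_le`: if `u` acts on every level with at most square-root-many fixed points then
  `|C_{U*}(u)|² ≤ |U*|`.
* `end_out`, `end_out'`: **END with outer 2-part**: an outer element `y` of `T` fixes at most square-root-many
  points on every level and `|U*| < |U|²`; then `t` is not in the commutator subgroup of `G`.
* `lvl_end_out`: the same for helper369's structure `Levels.Lvl`.
-/

set_option autoImplicit false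

namespace Cfsg.Agent.OddHalf.F4.EndOut

open MulAction Subgroup Cfsg.Agent.OddHalf.D9.TransferGen

variable {G : Type*} [Group G]

/-- **The transfer of `t` is not trivial**: only the conjugates `g⁻¹ t g` with `g⁻¹ T g ≤ S` matter. -/
theorem transfer_ne_one {A : Type*} [CommGroup A] [Finite G] (S : Subgroup G) (φ : S →* A) {t : G}
    (tt : t * t = 1) (tS : t ∈ S) (hat : φ ⟨t, tS⟩ ≠ 1)
    (hodd : Odd (S.relIndex (centralizer ({t} : Set G))))
    (T : Subgroup G) (hT : IsPGroup 2 T) (hTt : ∀ d ∈ T, d * t = t * d)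
    (hcl : ∀ g : G, (∀ d ∈ T, g⁻¹ * d * g ∈ S) → ∀ h : g⁻¹ * t * g ∈ S,
      φ ⟨g⁻¹ * t * g, h⟩ = φ ⟨t, tS⟩ → ∃ k ∈ S, g⁻¹ * t * g = k * t * k⁻¹)
    (c : A) (hc : c ≠ φ ⟨t, tS⟩)
    (hex : ∀ g : G, (∀ d ∈ T, g⁻¹ * d * g ∈ S) → ∀ h : g⁻¹ * t * g ∈ S, φ ⟨g⁻¹ * t * g, h⟩ = φ ⟨t, tS⟩ ∨
      φ ⟨g⁻¹ * t * g, h⟩ = 1 ∨ φ ⟨g⁻¹ * t * g, h⟩ = c) :
    MonoidHom.transfer φ t ≠ 1 := by
  classical
  have : Fintype (G ⧸ S) := Fintype.ofFinite _
  set a : A := φ ⟨t, tS⟩ with ha
  set C : Subgroup G := centralizer ({t} : Set G) with hC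
  have hmem : ∀ g, g ∈ C ↔ g * t = t * g := fun g => mem_centralizer_singleton_iff
  have ht2 : t ^ 2 = 1 := by rw [pow_two, tt]
  have a2 : a ^ 2 = 1 := by
    rw [ha, ← map_pow]
    have h1 : (⟨t, tS⟩ : S) ^ 2 = 1 := Subtype.ext (by rw [Subgroup.coe_pow]; exact ht2)
    rw [h1, map_one]
  rw [transfer_eq S φ t ?_]
  · have hsq : ∀ q : G ⧸ S, t • q = q → val S φ t q ^ 2 = 1 := by
      intro q hq
      obtain ⟨g, rfl⟩ := QuotientGroup.mk_surjective q
      have h := (smul_mk_eq S t g).1 hq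
      rw [val_mk S φ t g h, ← map_pow]
      have h1 : (⟨g⁻¹ * t * g, h⟩ : S) ^ 2 = 1 := by
        apply Subtype.ext
        rw [Subgroup.coe_pow]
        change (g⁻¹ * t * g) ^ 2 = 1
        calc (g⁻¹ * t * g) ^ 2 = g⁻¹ * (t * t) * g := by rw [pow_two]; group
          _ = 1 := by rw [tt]; group
      rw [h1, map_one]
    have hfix : ∀ d ∈ T, ∀ q : G ⧸ S, t • q = q → t • (d • q) = d • q := by
      intro d hd q hq
      rw [← mul_smul, ← hTt d hd, mul_smul, hq]
    have hact : ∀ (d : T) (q : G ⧸ S), d • q = (d : G) • q := fun _ _ => rfl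
    have h2 := prod_fixed hT (Finset.univ.filter (fun q : G ⧸ S => t • q = q)) (f := val S φ t)
      (fun d q hq => by
        rw [Finset.mem_filter] at hq ⊢
        exact ⟨Finset.mem_univ _, hfix d d.2 q hq.2⟩)
      (fun d q hq => by
        rw [Finset.mem_filter] at hq
        rw [hact, val_smul S φ (hTt d d.2) hq.2])
      (fun q hq => by
        rw [Finset.mem_filter] at hq
        exact hsq q hq.2)
    rw [h2]
    set s := (Finset.univ.filter (fun q : G ⧸ S => t • q = q)).filter (fun q => ∀ d : T, d • q = q) with hs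
    have hsm : ∀ q, q ∈ s ↔ t • q = q ∧ ∀ d : T, d • q = q := by
      intro q
      rw [hs, Finset.mem_filter, Finset.mem_filter]
      exact ⟨fun h => ⟨h.1.2, h.2⟩, fun h => ⟨⟨Finset.mem_univ _, h.1⟩, h.2⟩⟩
    rw [← Finset.prod_filter_mul_prod_filter_not s (fun q => val S φ t q = a)]
    -- the cosets of `C`
    set E := Finset.univ.filter (fun q : G ⧸ S => ∃ c ∈ C, ((c : G) : G ⧸ S) = q) with hE
    have hEcard : E.card = S.relIndex C := by
      rw [relIndex, index]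
      have h0 : E.card = Nat.card {q : G ⧸ S // ∃ c ∈ C, ((c : G) : G ⧸ S) = q} := by
        rw [Nat.card_eq_fintype_card, Fintype.card_subtype]
      rw [h0]
      symm
      refine Nat.card_congr (Equiv.ofBijective (fun q : C ⧸ S.subgroupOf C =>
        (⟨Quotient.liftOn' q (fun c => ((c : G) : G ⧸ S)) ?_, ?_⟩ :
          {q : G ⧸ S // ∃ c ∈ C, ((c : G) : G ⧸ S) = q})) ⟨?_, ?_⟩)
      · intro x y hxy
        rw [QuotientGroup.leftRel_apply, mem_subgroupOf] at hxy
        rw [QuotientGroup.eq]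
        exact hxy
      · obtain ⟨x, rfl⟩ := QuotientGroup.mk_surjective q
        exact ⟨x, x.2, rfl⟩
      · intro q1 q2 h
        obtain ⟨c1, rfl⟩ := QuotientGroup.mk_surjective q1
        obtain ⟨c2, rfl⟩ := QuotientGroup.mk_surjective q2
        have h1 : ((c1 : G) : G ⧸ S) = ((c2 : G) : G ⧸ S) := congrArg Subtype.val h
        rw [QuotientGroup.eq] at h1
        rw [QuotientGroup.eq, mem_subgroupOf]
        exact h1
      · rintro ⟨q, x, hx, rfl⟩
        exact ⟨((⟨x, hx⟩ : C) : C ⧸ S.subgroupOf C), rfl⟩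
    have h3 := prod_fixed hT E (f := fun _ => a)
      (fun d q hq => by
        rw [hE, Finset.mem_filter] at hq ⊢
        obtain ⟨x, hx, rfl⟩ := hq.2
        refine ⟨Finset.mem_univ _, d * x, mul_mem ((hmem _).2 (hTt d d.2)) hx, ?_⟩
        rw [hact, MulAction.Quotient.smul_mk, smul_eq_mul])
      (fun _ _ _ => rfl) (fun _ _ => a2)
    rw [Finset.prod_const, Finset.prod_const, hEcard] at h3
    have h4 : E.filter (fun q => ∀ d : T, d • q = q) = s.filter (fun q => val S φ t q = a) := by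
      ext q
      rw [Finset.mem_filter, Finset.mem_filter (p := fun q => val S φ t q = a), hsm, hE, Finset.mem_filter]
      constructor
      · rintro ⟨⟨-, x, hx, rfl⟩, hq⟩
        have h1 : x⁻¹ * t * x = t := by
          have := (hmem _).1 hx
          rw [mul_assoc, ← this, inv_mul_cancel_left]
        have h2 : x⁻¹ * t * x ∈ S := by rw [h1]; exact tS
        refine ⟨⟨(smul_mk_eq S t x).2 h2, hq⟩, ?_⟩
        rw [val_mk S φ t x h2, ha]
        congr 1
        exact Subtype.ext h1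
      · rintro ⟨⟨hq1, hq2⟩, hq3⟩
        obtain ⟨g, rfl⟩ := QuotientGroup.mk_surjective q
        have h := (smul_mk_eq S t g).1 hq1
        rw [val_mk S φ t g h] at hq3
        obtain ⟨k, hk, hgk⟩ := hcl g (fun d hd => (smul_mk_eq S d g).1 (hq2 ⟨d, hd⟩)) h hq3
        refine ⟨⟨Finset.mem_univ _, g * k, ?_, ?_⟩, hq2⟩
        · rw [hmem]
          have : t = g * (k * t * k⁻¹) * g⁻¹ := by rw [← hgk]; group
          calc g * k * t = g * (k * t * k⁻¹) * g⁻¹ * (g * k) := by group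
            _ = t * (g * k) := by rw [← this]
        · rw [eq_comm, QuotientGroup.eq, inv_mul_cancel_left]
          exact hk
    have h5 : ∏ q ∈ s.filter (fun q => val S φ t q = a), val S φ t q = a := by
      rw [Finset.prod_congr rfl (fun q hq => (Finset.mem_filter.1 hq).2), Finset.prod_const, ← h4, ← h3]
      obtain ⟨m, hm⟩ := hodd
      rw [hm, pow_succ, pow_mul, a2, one_pow, one_mul]
    rw [h5]
    -- the second factor is `1` or `c`
    have h6 := Out.Transfer.prod_eq_one_or (s.filter (fun q => ¬ val S φ t q = a)) (val S φ t) c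
      (fun q hq => hsq q ((hsm q).1 (Finset.mem_filter.1 hq).1).1)
      (fun q hq => by
        rw [Finset.mem_filter, hsm] at hq
        obtain ⟨⟨hq1, hq3⟩, hq2⟩ := hq
        obtain ⟨g, rfl⟩ := QuotientGroup.mk_surjective q
        have h := (smul_mk_eq S t g).1 hq1
        have h4 := hex g (fun d hd => (smul_mk_eq S d g).1 (hq3 ⟨d, hd⟩)) h
        rw [val_mk S φ t g h] at hq2 ⊢
        exact h4.resolve_left hq2)
    rcases h6 with h6 | h6 <;> rw [h6]
    · rw [mul_one]; exact hat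
    · intro h7
      apply hc
      rw [pow_two] at a2
      exact mul_left_cancel (h7.trans a2.symm)
  · intro k hk hk1 g h
    have h1 : k = 2 := by
      have h2 : k ∣ 2 := hk.trans (orderOf_dvd_of_pow_eq_one ht2)
      rcases (Nat.dvd_prime Nat.prime_two).1 h2 with h3 | h3
      · exact absurd h3 hk1
      · exact h3
    subst h1
    have h2 : (⟨g⁻¹ * t ^ 2 * g, h⟩ : S) = 1 := by
      apply Subtype.ext
      change g⁻¹ * t ^ 2 * g = 1
      rw [ht2]; group
    rw [h2, map_one]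

/-! ### The frame `S = T U*` -/

section frame

open Out.Exclude

variable {t : G} {T U Us : Subgroup G}

/-- `U*` as a normal subgroup of `S`. -/
theorem normal (F : Fr t T U Us) : (Us.subgroupOf F.S).Normal :=
  ⟨fun n hn g => by
    rw [mem_subgroupOf] at hn ⊢
    exact F.S_norm g.2 hn⟩

/-- the abelian group `S / U*` -/
@[reducible] def quotComm (F : Fr t T U Us) [(Us.subgroupOf F.S).Normal] :
    CommGroup (F.S ⧸ Us.subgroupOf F.S) :=
  { (inferInstance : Group (F.S ⧸ Us.subgroupOf F.S)) with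
    mul_comm := by
      intro a b
      obtain ⟨x, rfl⟩ := QuotientGroup.mk_surjective a
      obtain ⟨y, rfl⟩ := QuotientGroup.mk_surjective b
      rw [← QuotientGroup.mk_mul, ← QuotientGroup.mk_mul, QuotientGroup.eq, mem_subgroupOf]
      have h1 := F.comm_mem (inv_mem y.2) (inv_mem x.2)
      have h2 : ((x * y)⁻¹ * (y * x) : F.S) = y⁻¹ * x⁻¹ * y * x := by group
      rw [h2]
      simpa using h1 }

/-- the index of `T` is odd -/
theorem odd_relIndex [Finite G] (F : Fr t T U Us) : Odd (T.relIndex (centralizer ({t} : Set G))) := by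
  have hT : T ≤ centralizer ({t} : Set G) := fun d hd => mem_centralizer_singleton_iff.2 (F.Tc d hd)
  obtain ⟨P, hP⟩ := (F.T2.comap_subtype (K := centralizer ({t} : Set G))).exists_le_sylow
  have h1 : (P : Subgroup (centralizer ({t} : Set G))).map (centralizer ({t} : Set G)).subtype ≤ T := by
    refine F.Tmax _ (P.2.map _) ?_ ?_
    · intro d hd
      exact ⟨⟨d, hT hd⟩, hP (show d ∈ T from hd), rfl⟩
    · rintro _ ⟨x, -, rfl⟩
      exact mem_centralizer_singleton_iff.1 x.2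
  have h2 : (P : Subgroup (centralizer ({t} : Set G))) = T.subgroupOf (centralizer ({t} : Set G)) := by
    apply le_antisymm
    · intro x hx
      rw [mem_subgroupOf]
      exact h1 ⟨x, hx, rfl⟩
    · exact hP
  have : Fact (Nat.Prime 2) := ⟨Nat.prime_two⟩
  rw [relIndex, ← h2, Nat.odd_iff]
  have h3 := P.not_dvd_index
  omega

/-- **Transfer in the frame**: only the conjugates `u = g⁻¹ t g` with `g⁻¹ T g ≤ S` matter; those in `t U*` are
`S`-conjugate to `t`, the others lie in `U*` or `c U*` for a fixed `c ∈ S - t U*`. -/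
theorem not_mem_commutator [Finite G] (F : Fr t T U Us) (htU : t ∉ Us)
    (hcl : ∀ g : G, (∀ d ∈ T, g⁻¹ * d * g ∈ F.S) → t * (g⁻¹ * t * g) ∈ Us →
      ∃ k ∈ F.S, g⁻¹ * t * g = k * t * k⁻¹)
    (c : G) (hcS : c ∈ F.S) (hct : t * c ∉ Us)
    (hex : ∀ g : G, (∀ d ∈ T, g⁻¹ * d * g ∈ F.S) →
      t * (g⁻¹ * t * g) ∈ Us ∨ g⁻¹ * t * g ∈ Us ∨ c⁻¹ * (g⁻¹ * t * g) ∈ Us) :
    t ∉ _root_.commutator G := by
  have hn := normal F
  let _ := quotComm F
  have ti : t⁻¹ = t := inv_eq_of_mul_eq_one_left F.tt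
  have tS : t ∈ F.S := F.T_le F.tT
  set φ : F.S →* (F.S ⧸ Us.subgroupOf F.S) := QuotientGroup.mk' (Us.subgroupOf F.S) with hφ
  have key : ∀ x y : F.S, φ x = φ y ↔ (y : G)⁻¹ * x ∈ Us := by
    intro x y
    rw [eq_comm, hφ, QuotientGroup.mk'_apply, QuotientGroup.mk'_apply, QuotientGroup.eq, mem_subgroupOf]
    rfl
  have key1 : ∀ x : F.S, φ x = 1 ↔ (x : G) ∈ Us := by
    intro x
    rw [← map_one φ, key]
    simp
  have hodd : Odd (F.S.relIndex (centralizer ({t} : Set G))) :=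
    (odd_relIndex F).of_dvd_nat (relIndex_dvd_of_le_left _ F.T_le)
  have h1 := transfer_ne_one F.S φ F.tt tS (by rw [Ne, key1]; exact htU) hodd T F.T2 F.Tc
    (fun g hg h he => by
      rw [key] at he
      change t⁻¹ * (g⁻¹ * t * g) ∈ Us at he
      rw [ti] at he
      exact hcl g hg he)
    (φ ⟨c, hcS⟩) (by
      rw [Ne, key]
      change ¬ t⁻¹ * c ∈ Us
      rw [ti]; exact hct)
    (fun g hg h => by
      rw [key, key1, key]
      change t⁻¹ * (g⁻¹ * t * g) ∈ Us ∨ g⁻¹ * t * g ∈ Us ∨ c⁻¹ * (g⁻¹ * t * g) ∈ Us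
      rw [ti]
      exact hex g hg)
  intro h2
  apply h1
  have h3 : _root_.commutator G ≤ (MonoidHom.transfer φ).ker := Abelianization.commutator_subset_ker _
  exact h3 h2

end frame

/-! ### Counting -/

open EndO in
/-- If `u` fixes at most square-root-many points on every level then `|C_{U*}(u)|² ≤ |U*|`. -/
theorem card_cent_sq_le [Finite G] {V : ℕ → Subgroup G} {n : ℕ}
    (dec : ∀ k, 1 ≤ k → ∀ g ∈ N V k, ∃ v ∈ V k, ∃ g' ∈ N V (k + 1), g = v * g')
    (top : ∀ k, n < k → N V k = ⊥)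
    (ind : ∀ k, 1 ≤ k → ∀ v ∈ V k, v ∈ N V (k + 1) → v = 1) {u : G}
    (hu : ∀ k, 1 ≤ k → ∃ K : Subgroup G, (∀ w ∈ V k, ∀ g' ∈ N V (k + 1), w * g' * u = u * (w * g') → w ∈ K) ∧
      Nat.card K ^ 2 ≤ Nat.card (V k)) :
    Nat.card (N V 1 ⊓ centralizer {u} : Subgroup G) ^ 2 ≤ Nat.card (N V 1) := by
  have main : ∀ c k : ℕ, n < k + c → 1 ≤ k →
      Nat.card (N V k ⊓ centralizer {u} : Subgroup G) ^ 2 ≤ Nat.card (N V k) := by
    intro c
    induction c with
    | zero =>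
      intro k hk hk1
      rw [top k (by omega), bot_inf_eq, card_bot]
      norm_num
    | succ c ih =>
      intro k hk hk1
      obtain ⟨K, hK, hKc⟩ := hu k hk1
      have h1 := ih (k + 1) (by omega) (by omega)
      -- `|C_k| ≤ |K| |C_{k+1}|`
      have h2 : Nat.card (N V k ⊓ centralizer {u} : Subgroup G) ≤
          Nat.card K * Nat.card (N V (k + 1) ⊓ centralizer {u} : Subgroup G) := by
        have h3 := (Grd.card_aux (A := N V k ⊓ centralizer {u}) (B := K) (M := N V (k + 1)) (fun g hg => by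
          obtain ⟨v, hv, g', hg', rfl⟩ := dec k hk1 g hg.1
          exact ⟨v, hK v hv g' hg' (mem_centralizer_singleton_iff.1 hg.2), by
            rw [inv_mul_cancel_left]; exact hg'⟩)).1
        have h4 : (N V k ⊓ centralizer {u}) ⊓ N V (k + 1) = N V (k + 1) ⊓ centralizer {u} := by
          ext g
          constructor
          · rintro ⟨⟨_, h1⟩, h2⟩; exact ⟨h2, h1⟩
          · rintro ⟨h1, h2⟩; exact ⟨⟨N_anti V (Nat.le_succ k) h1, h2⟩, h1⟩
        rwa [h4] at h3
      -- `|V k| |N (k+1)| ≤ |N k|`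
      have h3 : Nat.card (V k) * Nat.card (N V (k + 1)) ≤ Nat.card (N V k) := by
        rw [← Nat.card_prod]
        refine Nat.card_le_card_of_injective (fun z : V k × N V (k + 1) =>
          (⟨z.1 * z.2, mul_mem (le_N V le_rfl z.1.2) (N_anti V (Nat.le_succ k) z.2.2)⟩ : N V k)) ?_
        rintro ⟨⟨x, hx⟩, ⟨s, hs⟩⟩ ⟨⟨y, hy⟩, ⟨r, hr⟩⟩ he
        have h1 : x * s = y * r := congrArg (fun z : N V k => (z : G)) he
        have h2 : y⁻¹ * x = r * s⁻¹ := by
          rw [inv_mul_eq_iff_eq_mul, ← mul_assoc, eq_mul_inv_iff_mul_eq]; exact h1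
        have h3 : y⁻¹ * x = 1 := ind k hk1 _ (mul_mem (inv_mem hy) hx) (by
          rw [h2]; exact mul_mem hr (inv_mem hs))
        have h4 : x = y := (inv_mul_eq_one.1 h3).symm
        subst h4
        have h5 : s = r := mul_left_cancel h1
        subst h5
        rfl
      calc Nat.card (N V k ⊓ centralizer {u} : Subgroup G) ^ 2
          ≤ (Nat.card K * Nat.card (N V (k + 1) ⊓ centralizer {u} : Subgroup G)) ^ 2 :=
            Nat.pow_le_pow_left h2 2
        _ = Nat.card K ^ 2 * Nat.card (N V (k + 1) ⊓ centralizer {u} : Subgroup G) ^ 2 := mul_pow _ _ _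
        _ ≤ Nat.card (V k) * Nat.card (N V (k + 1)) := Nat.mul_le_mul hKc h1
        _ ≤ Nat.card (N V k) := h3
  exact main (n + 1) 1 (by omega) le_rfl

/-! ### The graded group with an outer 2-part -/

section grd

open EndO Out.Exclude

variable {t : G} {V X : ℕ → Subgroup G} {lg : ℕ → Prop} {R n : ℕ}

/-- an element `u = x y w` (`x, w ∈ U*`, `y` normalising the levels) acts on the levels as `y` -/
theorem lead_of_comm (h : Grd t V X lg R n) {y w : G} (hw : w ∈ N V 1)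
    (hy : ∀ i, 1 ≤ i → ∀ v ∈ N V i, y * v * y⁻¹ ∈ N V i)
    {k : ℕ} (hk : 1 ≤ k) {v g' : G} (hv : v ∈ V k) (hg' : g' ∈ N V (k + 1))
    (hc : v * g' * (y * w) = y * w * (v * g')) : v⁻¹ * (y * v * y⁻¹) ∈ N V (k + 1) := by
  have hvk : v ∈ N V k := le_N V le_rfl hv
  have h1 := h.comm_N (by omega : 1 ≤ 1) hk hw (mul_mem hvk (N_anti V (Nat.le_succ k) hg'))
  rw [add_comm 1 k] at h1
  set z := w * (v * g') * w⁻¹ * (v * g')⁻¹ with hz
  -- `y w (v g') w⁻¹ y⁻¹ = v g'`
  have h2 : y * (z * (v * g')) * y⁻¹ = v * g' := by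
    have h3 : z * (v * g') = w * (v * g') * w⁻¹ := by rw [hz]; group
    rw [h3]
    calc y * (w * (v * g') * w⁻¹) * y⁻¹ = (y * w * (v * g')) * w⁻¹ * y⁻¹ := by group
      _ = v * g' := by rw [← hc]; group
  have h3 : y * v * y⁻¹ = (y * z * y⁻¹)⁻¹ * (v * g') * (y * g' * y⁻¹)⁻¹ := by
    rw [← h2]; group
  have h4 : v⁻¹ * (y * v * y⁻¹) = (v⁻¹ * (y * z * y⁻¹)⁻¹ * v) * (g' * (y * g' * y⁻¹)⁻¹) := by
    rw [h3]; group
  rw [h4]
  have hk1 : 1 ≤ k + 1 := by omega
  exact mul_mem (h.norm' hk1 (N_anti V hk hvk) (inv_mem (hy _ hk1 _ h1)))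
    (mul_mem hg' (inv_mem (hy _ hk1 _ hg')))

/-- **END with an outer 2-part.** `D ≤ T` with `T = D U` (e.g. `D = T`); every `y ∈ D` of order 2 modulo `U` outside
`⟨t⟩ U` fixes at most square-root-many points on every level. -/
theorem end_out' [Finite G] (h : Grd t V X lg R n) {T : Subgroup G}
    (F : Fr t T (N X 1) (N V 1)) (ht : t ∉ N X 1) (hcard : Nat.card (N V 1) < Nat.card (N X 1) ^ 2)
    (D : Subgroup G) (hDT : D ≤ T) (hTD : ∀ v ∈ T, ∃ y ∈ D, ∃ x ∈ N X 1, v = y * x)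
    (hDN : ∀ y ∈ D, ∀ i, 1 ≤ i → ∀ v ∈ N V i, y * v * y⁻¹ ∈ N V i)
    (hfld : ∀ y ∈ D, y * y ∈ N X 1 → y ∉ N X 1 → t * y ∉ N X 1 → ∀ i, 1 ≤ i → ∃ K : Subgroup G,
      (∀ v ∈ V i, v⁻¹ * (y * v * y⁻¹) ∈ N V (i + 1) → v ∈ K) ∧ Nat.card K ^ 2 ≤ Nat.card (V i))
    (hext : ∀ l ∈ Lg X lg 1, l ≠ 1 → l * l = 1 → Nat.card (N X 1) ≤ Nat.card (Grd.Cn t V l 1) →
      ¬ IsConj t (t * l)) : t ∉ _root_.commutator G := by
  have htt : t * t * t = t := by rw [h.tt, one_mul]
  have htN : t ∉ N V 1 := fun h' => ht (h.mem_NX le_rfl h' htt)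
  have huu : ∀ g : G, g⁻¹ * t * g * (g⁻¹ * t * g) = 1 := by
    intro g
    calc g⁻¹ * t * g * (g⁻¹ * t * g) = g⁻¹ * (t * t) * g := by group
      _ = 1 := by rw [h.tt]; group
  refine EndOut.not_mem_commutator F htN ?_ 1 (one_mem _) (by rwa [mul_one]) ?_
  · intro g hg htu
    set u := g⁻¹ * t * g with hu
    have htu' : t * (t * u) = u := by rw [← mul_assoc, h.tt, one_mul]
    obtain ⟨w, hw, l, hl, he⟩ := h.exists_conj htu (by rw [htu']; exact huu g)
    rw [htu'] at he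
    have hl1 : l = 1 := by
      by_contra hne
      refine hext l hl hne ?_ ?_ ?_
      · have h1 : t * l * (t * l) = 1 := by
          rw [← he]
          calc w⁻¹ * u * w * (w⁻¹ * u * w) = w⁻¹ * (u * u) * w := by group
            _ = 1 := by rw [huu g]; group
        have h2 := h.fix_Lg hl
        calc l * l = (t * l * t) * l := by rw [h2]
          _ = t * l * (t * l) := by group
          _ = 1 := h1
      · have h3 := card_le F hu.symm hg
        refine h3.trans (Nat.card_le_card_of_injective (fun z => ⟨w⁻¹ * z * w, ?_⟩) ?_)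
        · obtain ⟨hz1, hz2⟩ := mem_inf_cent.1 z.2
          refine mem_inf_cent.2 ⟨mul_mem (mul_mem (inv_mem hw) hz1) hw, ?_⟩
          rw [← he]
          calc w⁻¹ * (z : G) * w * (w⁻¹ * u * w) = w⁻¹ * ((z : G) * u) * w := by group
            _ = w⁻¹ * u * w * (w⁻¹ * z * w) := by rw [hz2]; group
        · intro a b hab
          have h4 : w⁻¹ * (a : G) * w = w⁻¹ * b * w := congrArg Subtype.val hab
          exact Subtype.ext (mul_left_cancel (mul_right_cancel h4))
      · rw [isConj_iff]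
        exact ⟨(g * w)⁻¹, by rw [← he, hu]; group⟩
    refine ⟨w, F.Us_le hw, ?_⟩
    rw [hl1, mul_one] at he
    rw [← he]; group
  · intro g hg
    by_cases h1 : t * (g⁻¹ * t * g) ∈ N V 1
    · exact Or.inl h1
    by_cases h2 : g⁻¹ * t * g ∈ N V 1
    · exact Or.inr (Or.inl h2)
    exfalso
    set u := g⁻¹ * t * g with hu
    have huS : u ∈ F.S := hg t F.tT
    obtain ⟨v, hv, w, hw, huvw⟩ := F.mem_S.1 huS
    obtain ⟨y, hy, x, hx, hvy⟩ := hTD v hv
    have hxN : x ∈ N V 1 := h.NX_le 1 hx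
    have hw' : x * w ∈ N V 1 := mul_mem hxN hw
    have huy : u = y * (x * w) := by rw [huvw, hvy, mul_assoc]
    have hyT : y ∈ T := hDT hy
    have hU : ∀ z, z ∈ T → z ∈ N V 1 → z ∈ N X 1 := fun z hz hz' => (F.hU z).2 ⟨hz', F.Tc z hz⟩
    -- `y² ∈ U`
    have hyy : y * y ∈ N X 1 := by
      apply hU _ (mul_mem hyT hyT)
      have h3 : y * (x * w) * (y * (x * w)) = 1 := by rw [← huy]; exact huu g
      have h4 : y * y = (y * (x * w) * y⁻¹)⁻¹ * (x * w)⁻¹ := by
        have h5 : y * y = (y * (x * w) * y⁻¹)⁻¹ * (y * (x * w) * (y * (x * w))) * (x * w)⁻¹ := by group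
        rw [h3, mul_one] at h5
        exact h5
      rw [h4]
      exact mul_mem (inv_mem (hDN y hy 1 le_rfl _ hw')) (inv_mem hw')
    have hy1 : y ∉ N X 1 := by
      intro h3
      apply h2
      rw [huy]
      exact mul_mem (h.NX_le 1 h3) hw'
    have hy2 : t * y ∉ N X 1 := by
      intro h3
      apply h1
      rw [huy, ← mul_assoc]
      exact mul_mem (h.NX_le 1 h3) hw'
    have h3 := card_cent_sq_le (n := n) (fun k hk g hg => h.decomp hk hg) (fun k hk => h.top_N hk)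
      (fun k hk v hv hv' => h.ind hk hv hv') (u := u) (fun k hk => by
        obtain ⟨K, hK, hKc⟩ := hfld y hy hyy hy1 hy2 k hk
        refine ⟨K, fun v hv g' hg' hc => hK v hv ?_, hKc⟩
        rw [huy] at hc
        exact lead_of_comm h hw' (hDN y hy) hk hv hg' hc)
    have h4 := card_le F hu.symm hg
    have h5 := Nat.pow_le_pow_left h4 2
    omega

/-- END with an outer 2-part, `t` not conjugate to `t x`, `1 ≠ x ∈ X R`, and `push` -/
theorem end_out [Finite G] (h : Grd t V X lg R n) {T : Subgroup G}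
    (F : Fr t T (N X 1) (N V 1)) (ht : t ∉ N X 1) (hcard : Nat.card (N V 1) < Nat.card (N X 1) ^ 2)
    (D : Subgroup G) (hDT : D ≤ T) (hTD : ∀ v ∈ T, ∃ y ∈ D, ∃ x ∈ N X 1, v = y * x)
    (hDN : ∀ y ∈ D, ∀ i, 1 ≤ i → ∀ v ∈ N V i, y * v * y⁻¹ ∈ N V i)
    (hfld : ∀ y ∈ D, y * y ∈ N X 1 → y ∉ N X 1 → t * y ∉ N X 1 → ∀ i, 1 ≤ i → ∃ K : Subgroup G,
      (∀ v ∈ V i, v⁻¹ * (y * v * y⁻¹) ∈ N V (i + 1) → v ∈ K) ∧ Nat.card K ^ 2 ≤ Nat.card (V i))
    (push : ∀ i, 1 ≤ i → lg i → i ≠ R → ∀ x ∈ X i, x ≠ 1 → ∃ j, 1 ≤ j ∧ lg j ∧ lg (i + j) ∧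
      ∃ y ∈ X j, y * x * y⁻¹ * x⁻¹ ∈ X (i + j) ∧ y * x ≠ x * y)
    (hR : ∀ x ∈ X R, x ≠ 1 → ¬ IsConj t (t * x)) : t ∉ _root_.commutator G :=
  end_out' h F ht hcard D hDT hTD hDN hfld
    fun _ hl hne _ hc => hR _ (h.mem_R_of_card push hl hc) hne

end grd

/-! ### helper369's structure `Levels.Lvl` -/

section lvl

open D7F4.Levels Out.Exclude

variable {t : G} {V X L : ℕ → Subgroup G} {M : ℕ}

theorem N_L_le (h : Lvl t V X L M) (k : ℕ) : N L k ≤ EndO.Lg X (fun i => i ≤ M ∧ V i ≤ L i) k := by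
  refine iSup₂_le fun i hi => ?_
  by_cases hiM : i ≤ M
  · rcases h.alt i with h1 | ⟨h1, _⟩
    · exact (h.L_le i).trans (EndO.le_Lg hi ⟨hiM, h1⟩)
    · rw [h1]; exact bot_le
  · have h1 : L i ≤ ⊥ := by
      rw [← h.top i (by omega)]
      exact (h.L_le i).trans (h.X_le i)
    exact h1.trans bot_le

theorem Lg_le_N_L (h : Lvl t V X L M) (k : ℕ) : EndO.Lg X (fun i => i ≤ M ∧ V i ≤ L i) k ≤ N L k :=
  EndO.Lg_le fun i hi hl => ((h.X_le i).trans hl.2).trans (le_N L hi)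

theorem grd_of_lvl (h : Lvl t V X L M) : EndO.Grd t V X (fun i => i ≤ M ∧ V i ≤ L i) M M where
  tt := h.tt
  conj := fun i v hv => h.conj_V hv
  sq := h.sq
  X_le := h.X_le
  X_fix := h.X_fix
  fix := h.cent
  free := fun i hi x hx => by
    by_cases hiM : i ≤ M
    · rcases h.alt i with h1 | ⟨_, h1⟩
      · exact absurd ⟨hiM, h1⟩ hi
      · exact h1 x hx
    · have h1 := h.X_le i hx
      rw [h.top i (by omega), mem_bot] at h1
      exact ⟨1, one_mem _, by rw [h1, inv_one, one_mul, mul_one, h.tt]⟩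
  lgV := fun i hi => hi.2.trans (h.L_le i)
  comm := fun i j _ _ _ => h.comm i j
  lcomm := fun i j _ _ _ hi hj v hv w hw =>
    N_L_le h _ (h.commL i j v (hi.2 (h.X_le i hv)) w (hj.2 (h.X_le j hw)))
  top := h.top
  indep := fun i _ => h.ind i
  lR := fun i hi => hi.1

/-- **END with an outer 2-part** for `Levels.Lvl` -/
theorem lvl_end_out [Finite G] (h : Lvl t V X L M) (hup : Lvl.Up L M) {T : Subgroup G}
    (F : Fr t T (N X 1) (N V 1)) (ht : t ∉ N X 1) (hcard : Nat.card (N V 1) < Nat.card (N X 1) ^ 2)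
    (D : Subgroup G) (hDT : D ≤ T) (hTD : ∀ v ∈ T, ∃ y ∈ D, ∃ x ∈ N X 1, v = y * x)
    (hDN : ∀ y ∈ D, ∀ i, 1 ≤ i → ∀ v ∈ N V i, y * v * y⁻¹ ∈ N V i)
    (hfld : ∀ y ∈ D, y * y ∈ N X 1 → y ∉ N X 1 → t * y ∉ N X 1 → ∀ i, 1 ≤ i → ∃ K : Subgroup G,
      (∀ v ∈ V i, v⁻¹ * (y * v * y⁻¹) ∈ N V (i + 1) → v ∈ K) ∧ Nat.card K ^ 2 ≤ Nat.card (V i))
    (hNM : ∀ x ∈ L M, ∀ g : G, g⁻¹ * t * g = t * x → x = 1) : t ∉ _root_.commutator G := by
  refine end_out' (grd_of_lvl h) F ht hcard D hDT hTD hDN hfld fun l hl hne _ hc hconj => hne ?_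
  obtain ⟨g, hg⟩ := isConj_iff.1 hconj
  refine hNM l (h.mem_top hup (Lg_le_N_L h 1 hl) hc) g⁻¹ ?_
  rw [inv_inv, hg]

end lvl

end Cfsg.Agent.OddHalf.F4.EndOut
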